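import Cfsg.Agent.Lib.Grp.SquarePlusOne.Second

/-!
With a semiregular kernel the group is a Zassenhaus group, which is impossible.
-/

set_option autoImplicit false

namespace Cfsg.Agent.Grp.SquarePlusOne

open MulAction

variable {G Ω : Type*} [Group G] [Finite G] [MulAction G Ω] {p : ℕ} [DecidableEq Ω] [Fintype Ω]
  [hp : Fact p.Prime] [FaithfulSMul G Ω]

section
variable {r : Blocks G Ω p} {a : Ω} (L : Local r a)
  (hK : ∀ u, u ≠ a → r.ker a ⊓ stabilizer G u = ⊥)

include L hK

theorem ker_le_P : r.ker a ≤ L.P := by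
  intro k hk
  by_cases h : ∃ u, u ≠ a
  · obtain ⟨u, hu⟩ := h
    obtain ⟨y, hyP, hyK, hy⟩ := exists_shift L (hk.2 u hu)
    have h1 : y⁻¹ * k ∈ r.ker a ⊓ stabilizer G u := Subgroup.mem_inf.2
      ⟨mul_mem (inv_mem hyK) hk, by rw [mem_stabilizer_iff, mul_smul, inv_smul_eq_iff, hy]⟩
    rw [hK u hu, Subgroup.mem_bot, inv_mul_eq_one] at h1
    exact h1 ▸ hyP
  · push Not at h
    have : k = 1 := eq_of_smul_eq_smul (α := Ω) fun u => by rw [h u, hk.1, one_smul]
    exact this ▸ one_mem _

/-- An element fixing `a` and a point, centralising the kernel, fixes the class of that point. -/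
theorem fix_class_of_central {h : G} {u v : Ω} (hc : ∀ k ∈ r.ker a, h * k = k * h) (hu : h • u = u)
    (hv : v ∈ r.cls a u) : h • v = v := by
  obtain ⟨k, -, hk, rfl⟩ := exists_shift L hv
  rw [← mul_smul, hc k hk, mul_smul, hu]

/-- An element fixing two points of one class centralises the kernel. -/
theorem central_of_fix_two {h : G} {u v : Ω} (ha : h • a = a) (hu : h • u = u) (hv : h • v = v)
    (hvu : v ∈ r.cls a u) (hne : v ≠ u) : ∀ k ∈ r.ker a, h * k = k * h := by
  classical
  have hua := r.ne' hvu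
  obtain ⟨k0, -, hk0, rfl⟩ := exists_shift L hvu
  have hcard : Nat.card (r.ker a) = p := by
    rw [card_ker L hua, hK u hua, Subgroup.card_bot, mul_one]
  have hk01 : (⟨k0, hk0⟩ : r.ker a) ≠ 1 := fun e => hne (by
    rw [show k0 = 1 from congrArg Subtype.val e, one_smul])
  have hcomm : h * k0 = k0 * h := by
    have h1 : (k0⁻¹ * (h * k0 * h⁻¹)) ∈ r.ker a ⊓ stabilizer G u := by
      refine Subgroup.mem_inf.2 ⟨mul_mem (inv_mem hk0) (r.conj_mem_ker_self ha hk0), ?_⟩
      rw [mem_stabilizer_iff, mul_smul, mul_smul, mul_smul, inv_smul_eq_iff.2 hu.symm, hv,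
        inv_smul_smul]
    rw [hK u hua, Subgroup.mem_bot, inv_mul_eq_one] at h1
    conv_rhs => rw [h1]
    group
  intro k hk
  obtain ⟨i, hi⟩ := mem_powers_iff_mem_zpowers.2
    (mem_zpowers_of_prime_card (g' := (⟨k, hk⟩ : r.ker a)) hcard hk01)
  have hi' : k0 ^ i = k := by simpa using congrArg Subtype.val hi
  rw [← hi']
  exact (Commute.pow_right hcomm i).eq

/-- A central element fixing two points at `a` fixes exactly one class. -/
theorem fixed_central {b : Ω} (hb : b ≠ a)
    (hne : ∃ h : G, h • a = a ∧ h • b = b ∧ (∀ k ∈ r.ker a, h * k = k * h) ∧ h ≠ 1) (v : Ω) :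
    (∀ h : G, h • a = a → h • b = b → (∀ k ∈ r.ker a, h * k = k * h) → h • v = v) ↔
      v = a ∨ v ∈ r.cls a b := by
  classical
  constructor
  · intro hfix
    by_cases hva : v = a
    · exact Or.inl hva
    refine Or.inr (by_contra fun hv => ?_)
    set C : Subgroup G := stabilizer G a ⊓ stabilizer G b ⊓ Subgroup.centralizer (r.ker a : Set G)
      with hC
    have hCmem : ∀ g, g ∈ C ↔ g • a = a ∧ g • b = b ∧ ∀ k ∈ r.ker a, g * k = k * g := by
      intro g
      simp only [hC, Subgroup.mem_inf, mem_stabilizer_iff, Subgroup.mem_centralizer_iff,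
        SetLike.mem_coe]
      exact ⟨fun h => ⟨h.1.1, h.1.2, fun k hk => (h.2 k hk).symm⟩,
        fun h => ⟨⟨h.1, h.2.1⟩, fun k hk => (h.2.2 k hk).symm⟩⟩
    obtain ⟨x, hx, rfl⟩ := L.trans b v hb hva
    have hPc : ∀ z ∈ L.P, ∀ k ∈ r.ker a, z * k = k * z := fun z hz k hk =>
      L.comm z hz k (ker_le_P L hK hk)
    set S : Subgroup L.P := (Subgroup.normalizer (C : Set G)).subgroupOf L.P with hS
    set R0 : Subgroup L.P := (r.ker a).subgroupOf L.P with hR0
    have hR0S : R0 ≤ S := by
      intro k hk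
      have hk' : (k : G) ∈ r.ker a := hk
      rw [hS, Subgroup.mem_subgroupOf, Subgroup.mem_normalizer_iff]
      intro g
      have h1 : ∀ g ∈ C, ∀ y ∈ r.ker a, y * g * y⁻¹ = g := fun g hg y hy => by
        rw [← ((hCmem g).1 hg).2.2 y hy, mul_inv_cancel_right]
      refine ⟨fun hg => (h1 g hg _ hk').symm ▸ hg, fun hg => ?_⟩
      have h3 := h1 _ hg _ (inv_mem hk')
      have h4 : g = (k : G) * g * (k : G)⁻¹ := Eq.trans (by group) h3
      rw [h4]
      exact hg
    have hxS : (⟨x, hx⟩ : L.P) ∈ S := by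
      rw [hS, Subgroup.mem_subgroupOf]
      refine Subgroup.mem_normalizer_iff.2 ?_
      have hfwd : ∀ g ∈ C, x⁻¹ * g * x ∈ C := by
        intro g hg
        obtain ⟨hga, hgb, hgc⟩ := (hCmem g).1 hg
        refine (hCmem _).2 ⟨?_, ?_, fun k hk => ?_⟩
        · have hxa : x • a = a := L.le hx
          rw [mul_smul, mul_smul, hxa, hga, inv_smul_eq_iff, hxa]
        · rw [mul_smul, mul_smul, hfix g hga hgb hgc, inv_smul_smul]
        · calc x⁻¹ * g * x * k = x⁻¹ * (g * k) * x := by rw [mul_assoc, hPc x hx k hk]; group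
            _ = (x⁻¹ * k) * g * x := by rw [hgc k hk]; group
            _ = k * (x⁻¹ * g * x) := by rw [hPc x⁻¹ (inv_mem hx) k hk]; group
      intro g
      constructor
      · intro hg
        let f : C → C := fun g => ⟨x⁻¹ * g * x, hfwd g g.2⟩
        have hf : Function.Injective f := fun g₁ g₂ e =>
          Subtype.ext (mul_left_cancel (mul_right_cancel (congrArg Subtype.val e)))
        obtain ⟨g', hg'⟩ := Finite.surjective_of_injective hf ⟨g, hg⟩
        have : x⁻¹ * (g' : G) * x = g := congrArg Subtype.val hg'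
        rw [← this]
        simp [mul_assoc]
      · intro hg
        have := hfwd _ hg
        simpa [mul_assoc] using this
    have hidx : R0.index = p := by
      have hcard : Nat.card R0 = p := by
        rw [hR0, Nat.card_congr (Subgroup.subgroupOfEquivOfLe (ker_le_P L hK)).toEquiv,
          card_ker L hb, hK b hb, Subgroup.card_bot, mul_one]
      have h := Subgroup.index_mul_card R0
      rw [hcard, L.card_eq, sq] at h
      exact Nat.eq_of_mul_eq_mul_right hp.out.pos h
    have htop : S = ⊤ := by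
      rw [← Subgroup.index_eq_one]
      rcases (Nat.dvd_prime hp.out).1 (hidx ▸ Subgroup.index_dvd_of_le hR0S) with e | e
      · exact e
      · exfalso
        have heq : R0 = S := by
          refine Subgroup.eq_of_le_of_card_ge hR0S ?_
          have h1 := Subgroup.index_mul_card S
          have h2 := Subgroup.index_mul_card R0
          rw [e] at h1; rw [hidx] at h2
          exact (Nat.eq_of_mul_eq_mul_left hp.out.pos (h1.trans h2.symm)).le
        have hxK : x ∈ r.ker a := (heq ▸ hxS : (⟨x, hx⟩ : L.P) ∈ R0)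
        exact hv (hxK.2 b hb)
    obtain ⟨h, ha', hb', hc', hne'⟩ := hne
    refine hne' (eq_of_smul_eq_smul (α := Ω) fun u => ?_)
    rw [one_smul]
    by_cases hua : u = a
    · rw [hua, ha']
    obtain ⟨z, hz, rfl⟩ := L.trans b u hb hua
    have hzS : (⟨z, hz⟩ : L.P)⁻¹ ∈ S := htop ▸ Subgroup.mem_top _
    rw [hS, Subgroup.mem_subgroupOf, Subgroup.mem_normalizer_iff] at hzS
    have h3 := ((hCmem _).1 ((hzS h).1 ((hCmem h).2 ⟨ha', hb', hc'⟩))).2.1
    simp only [Subgroup.coe_inv, inv_inv, mul_smul] at h3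
    exact inv_smul_eq_iff.1 h3
  · rintro (rfl | hv) h ha hb' hc
    · exact ha
    · exact fix_class_of_central L hK hc hb' hv

/-- The fixed points at `a` of an element outside the centraliser of the kernel. -/
theorem card_fixed_noncentral {h : G} (ha : h • a = a) {k₁ : G} (hk₁ : k₁ ∈ r.ker a)
    (hh : h * k₁ ≠ k₁ * h) (hdvd : p ∣ ((Finset.univ.erase a).filter fun u => h • u = u).card)
    {b : Ω} (hb : b ≠ a) (hbf : h • b = b) : False := by
  classical
  set F := (Finset.univ.erase a).filter fun u => h • u = u with hF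
  have hFmem : ∀ u, u ∈ F ↔ u ≠ a ∧ h • u = u := fun u => by simp [hF]
  have hinj : Set.InjOn (r.cls a) (F : Set Ω) := by
    intro u hu v hv e
    by_contra hne
    obtain ⟨hua, huf⟩ := (hFmem u).1 (Finset.mem_coe.1 hu)
    obtain ⟨hva, hvf⟩ := (hFmem v).1 (Finset.mem_coe.1 hv)
    exact hh (central_of_fix_two L hK ha huf hvf (e.symm ▸ r.self hva) (Ne.symm hne) k₁ hk₁)
  have hpF : p ≤ F.card := Nat.le_of_dvd (Finset.card_pos.2 ⟨b, (hFmem b).2 ⟨hb, hbf⟩⟩) hdvd
  have himg : F.image (r.cls a) = (Finset.univ.erase a).image (r.cls a) := by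
    refine Finset.eq_of_subset_of_card_le (Finset.image_subset_image (Finset.filter_subset _ _)) ?_
    rw [r.card_classes L.hΩ, Finset.card_image_of_injOn hinj]
    exact hpF
  have hker : h ∈ r.ker a ⊓ stabilizer G b := by
    refine Subgroup.mem_inf.2 ⟨⟨ha, fun u hu => ?_⟩, hbf⟩
    have h1 := r.mem_classes hu
    rw [← himg, Finset.mem_image] at h1
    obtain ⟨w, hw, hwu⟩ := h1
    rw [← hwu]
    obtain ⟨hwa, hwf⟩ := (hFmem w).1 hw
    exact r.moved_iff ha (hwu ▸ r.self hu) (by rw [hwf]; exact r.self hwa)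
  rw [hK b hb, Subgroup.mem_bot] at hker
  exact hh (by rw [hker, one_mul, mul_one])

/-- Without central elements the point stabiliser is a Frobenius group. -/
theorem frobenius {b : Ω} (hb : b ≠ a) (h2 : TwoTrans G Ω)
    (hc : ∀ h : G, h • a = a → h • b = b → (∀ k ∈ r.ker a, h * k = k * h) → h = 1) :
    IsCyclic ↥(stabilizer G a ⊓ stabilizer G b) ∧
      Nat.card ↥(stabilizer G a ⊓ stabilizer G b) ≤ p - 1 ∧
      ∀ h : G, h • a = a → h • b = b → h ≠ 1 → ∀ v, h • v = v → v = a ∨ v = b := by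
  classical
  set H := stabilizer G a ⊓ stabilizer G b with hH
  have hHmem : ∀ h, h ∈ H ↔ h • a = a ∧ h • b = b := fun h => by
    simp [hH, Subgroup.mem_inf, mem_stabilizer_iff]
  have hcard : Nat.card (r.ker a) = p := by
    rw [card_ker L hb, hK b hb, Subgroup.card_bot, mul_one]
  haveI hcyc : IsCyclic (r.ker a) := isCyclic_of_prime_card hcard
  let θ : H →* MulAut (r.ker a) :=
    { toFun := fun h =>
        { toFun := fun k => ⟨(h : G) * k * (h : G)⁻¹, r.conj_mem_ker_self ((hHmem h).1 h.2).1 k.2⟩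
          invFun := fun k => ⟨(h : G)⁻¹ * k * h, r.conj_mem_ker_self' ((hHmem h).1 h.2).1 k.2⟩
          left_inv := fun k => Subtype.ext (by simp [mul_assoc])
          right_inv := fun k => Subtype.ext (by simp [mul_assoc])
          map_mul' := fun k l => Subtype.ext (by simp [mul_assoc]) }
      map_one' := by ext k; simp
      map_mul' := fun h g => by ext k; simp [mul_assoc] }
  have hθ : Function.Injective θ := by
    rw [injective_iff_map_eq_one]
    intro h hh
    refine Subtype.ext (hc h ((hHmem h).1 h.2).1 ((hHmem h).1 h.2).2 fun k hk => ?_)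
    have h1 : θ h ⟨k, hk⟩ = (⟨k, hk⟩ : r.ker a) := by rw [hh]; rfl
    have h2 : (h : G) * k * (h : G)⁻¹ = k := congrArg Subtype.val h1
    exact mul_inv_eq_iff_eq_mul.1 h2
  haveI : IsCyclic (MulAut (r.ker a)) :=
    ((IsCyclic.mulAutMulEquiv (r.ker a)).trans (Units.mapEquiv
      ((ZMod.ringEquivCongr hcard).toMulEquiv))).isCyclic.2 inferInstance
  have hHcard : Nat.card H ≤ p - 1 := by
    calc Nat.card H ≤ Nat.card (MulAut (r.ker a)) := Nat.card_le_card_of_injective θ hθ
      _ = p - 1 := by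
        rw [IsCyclic.card_mulAut, hcard, Nat.totient_prime hp.out]
  refine ⟨isCyclic_of_injective θ hθ, hHcard, ?_⟩
  intro h ha hbf hne v hv
  by_cases hva : v = a
  · exact Or.inl hva
  refine Or.inr ?_
  obtain ⟨y, hy, rfl⟩ := L.trans b v hb hva
  set A := stabilizer G a with hA
  have hAcard : Nat.card A = p ^ 2 * Nat.card H := card_stabilizer_two L.hΩ h2 hb
  have hPA : Nat.card (L.P.subgroupOf A) = p ^ 2 := by
    rw [Nat.card_congr (Subgroup.subgroupOfEquivOfLe L.le).toEquiv, L.card_eq]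
  have hfac : (Nat.card A).factorization p = 2 := by
    rw [hAcard, Nat.factorization_mul (pow_ne_zero _ hp.out.ne_zero) Nat.card_pos.ne',
      Finsupp.add_apply, hp.out.factorization_pow, Finsupp.single_eq_same,
      Nat.factorization_eq_zero_of_not_dvd (L.hfree b hb)]
  let S : Sylow p A := Sylow.ofCard (L.P.subgroupOf A) (by rw [hPA, hfac])
  have hsub : Subsingleton (Sylow p A) := by
    have hidx : (S : Subgroup A).index = Nat.card H := by
      have h := Subgroup.index_mul_card (S : Subgroup A)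
      rw [show ((S : Subgroup A)) = L.P.subgroupOf A from rfl, hPA, hAcard, mul_comm] at h
      exact Nat.eq_of_mul_eq_mul_left (pow_pos hp.out.pos 2) h
    have hdvd := S.card_dvd_index
    have hmod := card_sylow_modEq_one p A
    have hle : Nat.card (Sylow p A) ≤ p - 1 :=
      (Nat.le_of_dvd (Nat.pos_of_ne_zero (Subgroup.index_ne_zero_of_finite)) hdvd).trans
        (hidx ▸ hHcard)
    rw [← Finite.card_le_one_iff_subsingleton]
    have hpos : 0 < Nat.card (Sylow p A) := Nat.card_pos
    have hpp := hp.out.two_le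
    have := hmod
    rw [Nat.ModEq, Nat.mod_eq_of_lt (by omega), Nat.mod_eq_of_lt hp.out.one_lt] at this
    omega
  haveI : (L.P.subgroupOf A).Normal := by
    have := Sylow.normal_of_subsingleton (P := S)
    exact this
  have hconj : ∀ z ∈ L.P, h * z * h⁻¹ ∈ L.P := by
    intro z hz
    have := (inferInstance : (L.P.subgroupOf A).Normal).conj_mem ⟨z, L.le hz⟩
      (Subgroup.mem_subgroupOf.2 hz) ⟨h, ha⟩
    simpa [Subgroup.mem_subgroupOf] using this
  have hyh : h * y * h⁻¹ = y := by
    have h1 := L.free (y⁻¹ * (h * y * h⁻¹)) (mul_mem (inv_mem hy) (hconj y hy)) b hb (by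
      rw [mul_smul, mul_smul, mul_smul, inv_smul_eq_iff.2 hbf.symm, hv, inv_smul_smul])
    exact (inv_mul_eq_one.1 h1).symm
  have hcy : Commute h y := mul_inv_eq_iff_eq_mul.1 hyh
  by_cases hyK : y ∈ r.ker a
  · by_contra hne'
    refine hne (hc h ha hbf fun k hk => ?_)
    refine central_of_fix_two L hK ha hbf hv (hyK.2 b hb) hne' k hk
  · exfalso
    apply hne
    have hmem : h ∈ r.ker a ⊓ stabilizer G b := by
      refine Subgroup.mem_inf.2 ⟨⟨ha, fun u hu => ?_⟩, hbf⟩
      obtain ⟨z, hz, rfl⟩ := L.trans b u hb hu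
      have hidx : ((r.ker a).subgroupOf L.P).index = p := by
        have hcard0 : Nat.card ((r.ker a).subgroupOf L.P) = p := by
          rw [Nat.card_congr (Subgroup.subgroupOfEquivOfLe (ker_le_P L hK)).toEquiv, hcard]
        have h := Subgroup.index_mul_card ((r.ker a).subgroupOf L.P)
        rw [hcard0, L.card_eq, sq] at h
        exact Nat.eq_of_mul_eq_mul_right hp.out.pos h
      set R0 := (r.ker a).subgroupOf L.P with hR0
      have htop : R0 ⊔ Subgroup.zpowers (⟨y, hy⟩ : L.P) = ⊤ := by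
        rw [← Subgroup.index_eq_one]
        rcases (Nat.dvd_prime hp.out).1 (hidx ▸ Subgroup.index_dvd_of_le
          (le_sup_left : R0 ≤ R0 ⊔ Subgroup.zpowers (⟨y, hy⟩ : L.P))) with e | e
        · exact e
        · exfalso
          have heq : R0 = R0 ⊔ Subgroup.zpowers (⟨y, hy⟩ : L.P) := by
            refine Subgroup.eq_of_le_of_card_ge le_sup_left ?_
            have h1 := Subgroup.index_mul_card (R0 ⊔ Subgroup.zpowers (⟨y, hy⟩ : L.P))
            have h2 := Subgroup.index_mul_card R0
            rw [e] at h1; rw [hidx] at h2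
            exact (Nat.eq_of_mul_eq_mul_left hp.out.pos (h1.trans h2.symm)).le
          exact hyK (Subgroup.mem_subgroupOf.1 (heq.symm ▸ Subgroup.mem_sup_right
            (Subgroup.mem_zpowers _) : (⟨y, hy⟩ : L.P) ∈ R0))
      haveI : R0.Normal := ⟨fun n hn w => by
        have hwn : w * n * w⁻¹ = n := Subtype.ext (by
          simp only [Subgroup.coe_mul, Subgroup.coe_inv]
          rw [L.comm _ w.2 _ n.2, mul_inv_cancel_right])
        rw [hwn]; exact hn⟩
      have hmz : (⟨z, hz⟩ : L.P) ∈ R0 ⊔ Subgroup.zpowers (⟨y, hy⟩ : L.P) :=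
        htop.symm ▸ Subgroup.mem_top _
      obtain ⟨k, hk, w, hw, hkw⟩ := Subgroup.mem_sup_of_normal_left.1 hmz
      obtain ⟨i, rfl⟩ := hw
      have hz' : z = (k : G) * y ^ i := by simpa using (congrArg Subtype.val hkw).symm
      have hk' : (k : G) ∈ r.ker a := hk
      have hw' : y ^ i • b ≠ a := fun e =>
        hb (smul_left_cancel (y ^ i) (e.trans (L.le (zpow_mem hy i) : y ^ i • a = a).symm))
      have he : h • (k : G) • y ^ i • b = (h * k * h⁻¹) • y ^ i • b := by
        conv_rhs => rw [mul_smul, mul_smul]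
        refine congrArg (fun w => h • (k : G) • w) ?_
        rw [eq_inv_smul_iff, ← mul_smul, (hcy.zpow_right i).eq, mul_smul, hbf]
      rw [hz', mul_smul, r.eq (hk'.2 _ hw'), he]
      exact (r.conj_mem_ker_self ha hk').2 _ hw'
    rw [hK b hb, Subgroup.mem_bot] at hmem
    exact hmem

end

/-- Two-point stabilisers meet the centraliser of the kernel trivially. -/
theorem no_central (r : Blocks G Ω p) (hΩ : Fintype.card Ω = p ^ 2 + 1) (h2 : TwoTrans G Ω)
    (L : ∀ a, Local r a) (hK : ∀ a u, u ≠ a → r.ker a ⊓ stabilizer G u = ⊥) {a b : Ω}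
    (hab : a ≠ b) :
    ∀ h : G, h • a = a → h • b = b → (∀ k ∈ r.ker a, h * k = k * h) → h = 1 := by
  classical
  by_contra hne
  push Not at hne
  obtain ⟨h0, h0a, h0b, h0c, h0ne⟩ := hne
  obtain ⟨t, hta, htb⟩ := h2 a b b a hab hab.symm
  have hconj : ∀ {h : G}, h • a = a → h • b = b → (∀ k ∈ r.ker a, h * k = k * h) →
      (t * h * t⁻¹) • b = b ∧ (t * h * t⁻¹) • a = a ∧
        ∀ k ∈ r.ker b, (t * h * t⁻¹) * k = k * (t * h * t⁻¹) := by
    intro h ha hb hc
    refine ⟨?_, ?_, fun k hk => ?_⟩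
    · rw [mul_smul, mul_smul, inv_smul_eq_iff.2 hta.symm, ha, hta]
    · rw [mul_smul, mul_smul, inv_smul_eq_iff.2 htb.symm, hb, htb]
    · have hk' : t⁻¹ * k * t ∈ r.ker a := by
        have := r.conj_mem_ker (g := t⁻¹) hk
        rwa [inv_inv, inv_smul_eq_iff.2 hta.symm] at this
      calc t * h * t⁻¹ * k = t * (h * (t⁻¹ * k * t)) * t⁻¹ := by group
        _ = k * (t * h * t⁻¹) := by rw [hc _ hk']; group
  have hsub : ∀ n : G, n • b = b → n • a = a → (∀ k ∈ r.ker b, n * k = k * n) →
      ∀ k ∈ r.ker a, n * k = k * n := by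
    intro n hnb hna hnc k hk
    by_contra hne
    refine card_fixed_noncentral (L a) (hK a) hna hk hne ?_ hab.symm hnb
    have hdvd : p ∣ ((Finset.univ.erase b).filter fun u => n • u = u).card := by
      refine r.dvd_card_closed (a := b)
        (fun u hu => (Finset.mem_erase.1 (Finset.mem_filter.1 hu).1).1) fun u hu w hw => ?_
      refine Finset.mem_filter.2 ⟨Finset.mem_erase.2 ⟨r.ne hw, Finset.mem_univ _⟩, ?_⟩
      exact fix_class_of_central (L b) (hK b) hnc (Finset.mem_filter.1 hu).2 hw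
    rw [Finset.filter_erase, Finset.card_erase_of_mem (by simp [hnb])] at hdvd
    rwa [Finset.filter_erase, Finset.card_erase_of_mem (by simp [hna])]
  have hneb : ∃ h : G, h • b = b ∧ h • a = a ∧ (∀ k ∈ r.ker b, h * k = k * h) ∧ h ≠ 1 := by
    obtain ⟨h1, h2', h3⟩ := hconj h0a h0b h0c
    exact ⟨_, h1, h2', h3, fun e => h0ne (conj_eq_one_iff.1 e)⟩
  refine steiner_false_of_pair r hΩ h2 hab (Finset.eq_of_subset_of_card_le ?_ ?_)
  · intro v hv
    rw [Finset.mem_insert] at hv ⊢
    refine (fixed_central (L b) (hK b) hab hneb v).1 fun n hnb hna hnc => ?_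
    exact (fixed_central (L a) (hK a) hab.symm ⟨h0, h0a, h0b, h0c, h0ne⟩ v).2 hv n hna hnb
      (hsub n hnb hna hnc)
  · rw [Finset.card_insert_of_notMem (r.notMem _ _), Finset.card_insert_of_notMem (r.notMem _ _),
      r.card hab, r.card hab.symm]

end Cfsg.Agent.Grp.SquarePlusOne
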