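import Mathlib

/-!
Equivariant block systems on the complements of the points, for a two-transitive action of degree
`p ^ 2 + 1`.
-/

set_option autoImplicit false

namespace Cfsg.Agent.Grp.SquarePlusOne

/-- For each point `a` a partition of the other points into sets of size `p`, equivariantly. -/
structure Blocks (G Ω : Type*) [Group G] [MulAction G Ω] (p : ℕ) where
  cls : Ω → Ω → Finset Ω
  self : ∀ {a b : Ω}, b ≠ a → b ∈ cls a b
  notMem : ∀ a b : Ω, a ∉ cls a b
  diag : ∀ a : Ω, cls a a = ∅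
  eq : ∀ {a b c : Ω}, c ∈ cls a b → cls a c = cls a b
  card : ∀ {a b : Ω}, b ≠ a → (cls a b).card = p
  mem_smul : ∀ (g : G) {a b c : Ω}, c ∈ cls a b → g • c ∈ cls (g • a) (g • b)

variable {G Ω : Type*} [Group G] [MulAction G Ω] {p : ℕ}

namespace Blocks

variable (r : Blocks G Ω p)

theorem ne {a b c : Ω} (h : c ∈ r.cls a b) : c ≠ a := fun e => r.notMem a b (e ▸ h)

theorem ne' {a b c : Ω} (h : c ∈ r.cls a b) : b ≠ a := fun e => by
  rw [e, r.diag] at h; exact Finset.notMem_empty _ h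

theorem symm {a b c : Ω} (h : c ∈ r.cls a b) : b ∈ r.cls a c := by
  rw [r.eq h]; exact r.self (r.ne' h)

theorem mem_smul_fix {g : G} {a b c : Ω} (ha : g • a = a) (h : c ∈ r.cls a b) :
    g • c ∈ r.cls a (g • b) := by
  have := r.mem_smul g h; rwa [ha] at this

theorem moved_iff {g : G} {a b c : Ω} (ha : g • a = a) (h : c ∈ r.cls a b) (hb : g • b ∈ r.cls a b) :
    g • c ∈ r.cls a b := by
  rw [← r.eq hb]; exact r.mem_smul_fix ha h

/-- The elements fixing `a` and every class at `a`. -/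
def ker (a : Ω) : Subgroup G where
  carrier := {g | g • a = a ∧ ∀ u, u ≠ a → g • u ∈ r.cls a u}
  one_mem' := ⟨one_smul G a, fun u hu => by rw [one_smul]; exact r.self hu⟩
  mul_mem' := by
    intro g h hg hh
    refine ⟨by rw [mul_smul, hh.1, hg.1], fun u hu => ?_⟩
    have h1 := hg.2 (h • u) (r.ne (hh.2 u hu))
    rwa [r.eq (hh.2 u hu), smul_smul] at h1
  inv_mem' := by
    intro g hg
    have ha : g⁻¹ • a = a := inv_smul_eq_iff.2 hg.1.symm
    refine ⟨ha, fun u hu => ?_⟩
    have hu' : g⁻¹ • u ≠ a := fun e => hu (by rw [← hg.1, ← e, smul_inv_smul])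
    have h1 := hg.2 _ hu'
    rw [smul_inv_smul] at h1
    rw [r.eq h1]
    exact r.self hu'

theorem mem_ker {a : Ω} {g : G} :
    g ∈ r.ker a ↔ g • a = a ∧ ∀ u, u ≠ a → g • u ∈ r.cls a u := Iff.rfl

theorem conj_mem_ker {a : Ω} {g k : G} (hk : k ∈ r.ker a) : g * k * g⁻¹ ∈ r.ker (g • a) := by
  refine ⟨by rw [mul_smul, mul_smul, inv_smul_smul, hk.1], fun u hu => ?_⟩
  have hu' : g⁻¹ • u ≠ a := fun e => hu (by rw [← e, smul_inv_smul])
  have h1 := r.mem_smul g (hk.2 _ hu')
  rwa [smul_inv_smul, smul_smul, smul_smul] at h1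

theorem conj_mem_ker_self {a : Ω} {g k : G} (hg : g • a = a) (hk : k ∈ r.ker a) :
    g * k * g⁻¹ ∈ r.ker a := by
  have := r.conj_mem_ker (g := g) hk; rwa [hg] at this

theorem conj_mem_ker_self' {a : Ω} {g k : G} (hg : g • a = a) (hk : k ∈ r.ker a) :
    g⁻¹ * k * g ∈ r.ker a := by
  have := r.conj_mem_ker_self (g := g⁻¹) (inv_smul_eq_iff.2 hg.symm) hk; rwa [inv_inv] at this

variable [DecidableEq Ω]

theorem card_closed {a : Ω} {S : Finset Ω} (hS : ∀ u ∈ S, u ≠ a)
    (hcl : ∀ u ∈ S, r.cls a u ⊆ S) : S.card = (S.image (r.cls a)).card * p := by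
  rw [Finset.card_eq_sum_card_image (r.cls a) S]
  refine Finset.sum_const_nat fun C hC => ?_
  obtain ⟨u, hu, rfl⟩ := Finset.mem_image.1 hC
  refine Eq.trans (congrArg Finset.card ?_) (r.card (hS u hu))
  ext w
  rw [Finset.mem_filter]
  exact ⟨fun h => h.2 ▸ r.self (hS w h.1), fun h => ⟨hcl u hu h, r.eq h⟩⟩

theorem dvd_card_closed {a : Ω} {S : Finset Ω} (hS : ∀ u ∈ S, u ≠ a)
    (hcl : ∀ u ∈ S, r.cls a u ⊆ S) : p ∣ S.card :=
  ⟨_, (r.card_closed hS hcl).trans (mul_comm _ _)⟩

variable [Fintype Ω]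

theorem card_classes [hp : Fact p.Prime] (hΩ : Fintype.card Ω = p ^ 2 + 1) (a : Ω) :
    ((Finset.univ.erase a).image (r.cls a)).card = p := by
  have h := r.card_closed (a := a) (S := Finset.univ.erase a) (fun u hu => (Finset.mem_erase.1 hu).1)
    (fun u _ w hw => Finset.mem_erase.2 ⟨r.ne hw, Finset.mem_univ _⟩)
  rw [Finset.card_erase_of_mem (Finset.mem_univ _), Finset.card_univ, hΩ, Nat.add_sub_cancel,
    sq] at h
  exact (Nat.eq_of_mul_eq_mul_right hp.out.pos h).symm

theorem mem_classes {a u : Ω} (hu : u ≠ a) :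
    r.cls a u ∈ (Finset.univ.erase a).image (r.cls a) :=
  Finset.mem_image_of_mem _ (Finset.mem_erase.2 ⟨hu, Finset.mem_univ _⟩)

end Blocks

/-- Any ordered pair of distinct points can be moved to any other one. -/
def TwoTrans (G Ω : Type*) [Group G] [MulAction G Ω] : Prop :=
  ∀ a b c d : Ω, a ≠ b → c ≠ d → ∃ g : G, g • a = c ∧ g • b = d

variable [DecidableEq Ω] [Fintype Ω] [hp : Fact p.Prime]

/-- The classes do not form a Steiner system. -/
theorem steiner_false (r : Blocks G Ω p) (hΩ : Fintype.card Ω = p ^ 2 + 1)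
    (h : ∀ a b : Ω, a ≠ b → insert a (r.cls a b) = insert b (r.cls b a)) : False := by
  classical
  set L : Ω → Ω → Finset Ω := fun a b => insert a (r.cls a b) with hL
  have hLsame : ∀ a b c, c ∈ r.cls a b → L a c = L a b := fun a b c hc => by
    simp only [hL, r.eq hc]
  have hline : ∀ a b x y, a ≠ b → x ∈ L a b → y ∈ L a b → x ≠ y → L x y = L a b := by
    intro a b x y hab hx hy hxy
    rw [hL, Finset.mem_insert] at hx hy
    rcases hx with rfl | hx
    · exact hLsame _ _ _ (hy.resolve_left fun e => hxy e.symm)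
    · rcases hy with rfl | hy
      · exact (h x _ hxy).trans (hLsame _ _ _ hx)
      · have h1 : L x a = L a b := (h x a (r.ne hx)).trans (hLsame _ _ _ hx)
        have h2 : y ∈ L x a := h1 ▸ Finset.mem_insert_of_mem hy
        exact (hLsame _ _ _ ((Finset.mem_insert.1 h2).resolve_left fun e => hxy e.symm)).trans h1
  set P := (Finset.univ ×ˢ Finset.univ : Finset (Ω × Ω)).filter fun q => q.1 ≠ q.2 with hP
  set Ls := P.image fun q => L q.1 q.2 with hLs
  have hcard : ∀ l ∈ Ls, l.card = p + 1 := by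
    intro l hl
    obtain ⟨q, hq, rfl⟩ := Finset.mem_image.1 hl
    have hq' := (Finset.mem_filter.1 hq).2
    rw [hL, Finset.card_insert_of_notMem (r.notMem _ _), r.card hq'.symm]
  have hthrough : ∀ x, (Ls.filter fun l => x ∈ l).card = p := by
    intro x
    conv_rhs => rw [← r.card_classes hΩ x]
    symm
    refine Finset.card_bij (fun C _ => insert x C) ?_ ?_ ?_
    · intro C hC
      obtain ⟨u, hu, rfl⟩ := Finset.mem_image.1 hC
      exact Finset.mem_filter.2 ⟨Finset.mem_image.2 ⟨(x, u), Finset.mem_filter.2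
        ⟨Finset.mem_product.2 ⟨Finset.mem_univ _, Finset.mem_univ _⟩,
          ((Finset.mem_erase.1 hu).1).symm⟩, rfl⟩, Finset.mem_insert_self _ _⟩
    · intro C hC D hD e
      obtain ⟨u, -, rfl⟩ := Finset.mem_image.1 hC
      obtain ⟨v, -, rfl⟩ := Finset.mem_image.1 hD
      have := congrArg (fun S : Finset Ω => S.erase x) e
      simpa [Finset.erase_insert (r.notMem _ _)] using this
    · intro l hl
      obtain ⟨hl, hx⟩ := Finset.mem_filter.1 hl
      obtain ⟨q, hq, rfl⟩ := Finset.mem_image.1 hl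
      have hq' : q.1 ≠ q.2 := (Finset.mem_filter.1 hq).2
      have h1 : 1 < (L q.1 q.2).card := by
        rw [hcard _ (Finset.mem_image_of_mem _ hq)]
        have := hp.out.pos
        omega
      obtain ⟨y, hy, hyx⟩ := Finset.exists_mem_ne h1 x
      exact ⟨r.cls x y, r.mem_classes hyx, hline _ _ x y hq' hx hy hyx.symm⟩
  have hcount := Finset.sum_card_bipartiteAbove_eq_sum_card_bipartiteBelow
    (s := (Finset.univ : Finset Ω)) (t := Ls) (r := fun x l => x ∈ l)
  simp only [Finset.bipartiteAbove, Finset.bipartiteBelow, hthrough, Finset.filter_univ_mem] at hcount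
  rw [Finset.sum_const, Finset.card_univ, hΩ, smul_eq_mul, Finset.sum_const_nat hcard] at hcount
  have h1 : ((p + 1 : ℕ) : ℤ) ∣ 2 := by
    have h2 : ((p + 1 : ℕ) : ℤ) ∣ ((p ^ 2 + 1) * p : ℕ) := ⟨Ls.card, by rw [hcount]; push_cast; ring⟩
    obtain ⟨k, hk⟩ := h2
    refine ⟨(p : ℤ) ^ 2 - (p : ℤ) + 2 - k, ?_⟩
    push_cast at hk ⊢
    linear_combination -hk
  have h3 := Nat.le_of_dvd two_pos (Int.natCast_dvd_natCast.1 (by exact_mod_cast h1))
  have := hp.out.two_le
  omega

theorem steiner_false_of_pair (r : Blocks G Ω p) (hΩ : Fintype.card Ω = p ^ 2 + 1)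
    (h2 : TwoTrans G Ω) {a b : Ω} (hab : a ≠ b)
    (h : insert a (r.cls a b) = insert b (r.cls b a)) : False := by
  refine steiner_false r hΩ fun c d hcd => ?_
  obtain ⟨g, rfl, rfl⟩ := h2 a b c d hab hcd
  have himg : ∀ a b : Ω, a ≠ b → insert a (r.cls a b) = insert b (r.cls b a) →
      insert (g • a) (r.cls (g • a) (g • b)) ⊆ insert (g • b) (r.cls (g • b) (g • a)) := by
    intro a b hab h x hx
    have hx' : g⁻¹ • x ∈ insert a (r.cls a b) := by
      rcases Finset.mem_insert.1 hx with rfl | hx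
      · simp
      · have := r.mem_smul g⁻¹ hx
        simp only [inv_smul_smul] at this
        exact Finset.mem_insert_of_mem this
    rw [h] at hx'
    rcases Finset.mem_insert.1 hx' with e | e
    · rw [← e, smul_inv_smul]; exact Finset.mem_insert_self _ _
    · have := r.mem_smul g e
      rw [smul_inv_smul] at this
      exact Finset.mem_insert_of_mem this
  exact Finset.Subset.antisymm (himg a b hab h) (himg b a hab.symm h.symm)

end Cfsg.Agent.Grp.SquarePlusOne
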