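import Mathlib

/-!
A sum of distinct `p`-th roots of unity whose `p`-th power is rational up to a root of unity has
one or `p - 1` terms.
-/

set_option autoImplicit false

namespace Cfsg.Agent.Grp.SquarePlusOne

variable {p : ℕ} [hp : Fact p.Prime]

section
variable {K : Type*} [Field K] [CharZero K] [IsCyclotomicExtension {p} ℚ K] {ζ : K}

theorem eq_last_of_sum_eq_zero (hζ : IsPrimitiveRoot ζ p) (c : ℕ → ℚ)
    (h : ∑ i ∈ Finset.range p, (c i : K) * ζ ^ i = 0) : ∀ i < p, c i = c (p - 1) := by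
  have hgeo := hζ.geom_sum_eq_zero hp.out.one_lt
  have hdim : (hζ.powerBasis ℚ).dim = p - 1 := by
    rw [hζ.powerBasis_dim ℚ, ← hζ.minpoly_eq_cyclotomic_of_irreducible
      (Polynomial.cyclotomic.irreducible_rat hp.out.pos), Polynomial.natDegree_cyclotomic,
      Nat.totient_prime hp.out]
  have h1 : ∑ i ∈ Finset.range p, ((c i - c (p - 1) : ℚ) : K) * ζ ^ i = 0 := by
    simp only [Rat.cast_sub, sub_mul, Finset.sum_sub_distrib, h, ← Finset.mul_sum, hgeo,
      mul_zero, sub_zero]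
  rw [show p = (p - 1) + 1 by have := hp.out.pos; omega, Finset.sum_range_succ] at h1
  simp only [Nat.add_sub_cancel, sub_self, Rat.cast_zero, zero_mul, add_zero] at h1
  rw [← hdim, Finset.sum_range] at h1
  have hli := Fintype.linearIndependent_iff.1 (hζ.powerBasis ℚ).basis.linearIndependent
    (fun i => c i.1 - c (hζ.powerBasis ℚ).dim) (by
      rw [PowerBasis.coe_basis]
      simp only [hζ.powerBasis_gen ℚ, Rat.smul_def]
      exact h1)
  intro i hi
  rcases Nat.lt_or_ge i (p - 1) with hi' | hi'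
  · have := hli ⟨i, hdim.symm ▸ hi'⟩
    simp only [hdim] at this
    exact sub_eq_zero.1 this
  · rw [show i = p - 1 by omega]

theorem exists_eq_mul_pow (hp2 : p ≠ 2) (hζ : IsPrimitiveRoot ζ p) {S : K} (hS : S ≠ 0) {e : ℕ}
    {α : ℚ} (h : S ^ p * ζ ^ e = α) : ∃ (c : ℚ) (j : ℕ), j < p ∧ S = c * ζ ^ j := by
  haveI : NeZero p := ⟨hp.out.ne_zero⟩
  haveI : NumberField K := IsCyclotomicExtension.numberField {p} ℚ K
  have hirr := Polynomial.cyclotomic.irreducible_rat hp.out.pos
  have hα : α ≠ 0 := fun e0 => by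
    rw [e0, Rat.cast_zero] at h
    exact mul_ne_zero (pow_ne_zero _ hS) (pow_ne_zero _ (hζ.ne_zero hp.out.ne_zero)) h
  have hfin : Module.finrank ℚ K = p - 1 := by
    rw [IsCyclotomicExtension.finrank K hirr, Nat.totient_prime hp.out]
  have hN : Algebra.norm ℚ S ^ p = α ^ (p - 1) := by
    have := congrArg (Algebra.norm ℚ) h
    rwa [map_mul, map_pow, map_pow, hζ.norm_eq_one hp2 hirr, one_pow, mul_one,
      show (α : K) = algebraMap ℚ K α from (eq_ratCast (algebraMap ℚ K) α).symm,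
      Algebra.norm_algebraMap, hfin] at this
  have hN0 : Algebra.norm ℚ S ≠ 0 := fun e0 => by
    rw [e0, zero_pow hp.out.ne_zero] at hN; exact pow_ne_zero _ hα hN.symm
  set q : ℚ := α / Algebra.norm ℚ S with hq
  have hqp : q ^ p = α := by
    rw [hq, div_pow, hN, div_eq_iff (pow_ne_zero _ hα), ← pow_succ',
      show p - 1 + 1 = p by have := hp.out.pos; omega]
  have hq0 : (q : K) ≠ 0 := by rw [Rat.cast_ne_zero, hq]; exact div_ne_zero hα hN0
  have hω : IsOfFinOrder (S / q) := by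
    rw [isOfFinOrder_iff_pow_eq_one]
    refine ⟨p * p, Nat.mul_pos hp.out.pos hp.out.pos, ?_⟩
    rw [div_pow, div_eq_one_iff_eq (pow_ne_zero _ hq0), pow_mul, pow_mul, ← Rat.cast_pow q p, hqp,
      ← h, mul_pow, ← pow_mul ζ e p, mul_comm e p, pow_mul ζ p e, hζ.pow_eq_one, one_pow, mul_one]
  obtain ⟨j, hj, hj' | hj'⟩ :=
    hζ.exists_pow_or_neg_mul_pow_of_isOfFinOrder (hp.out.odd_of_ne_two hp2) hω
  · exact ⟨q, j, hj, by rw [div_eq_iff hq0] at hj'; rw [hj', mul_comm]⟩
  · exact ⟨-q, j, hj, by rw [div_eq_iff hq0] at hj'; rw [hj', Rat.cast_neg]; ring⟩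

end

/-- The key lemma: `g n` are the coefficients of the powers of the sum over `D`. -/
theorem singleton_or_compl (hp2 : p ≠ 2) (D : Finset (ZMod p)) (hD : D.Nonempty)
    (hDu : D ≠ Finset.univ) (g : ℕ → ZMod p → ℕ) (hg0 : ∀ v, g 0 v = if v = 0 then 1 else 0)
    (hg : ∀ n v, g (n + 1) v = ∑ d ∈ D, g n (v - d)) (e : ZMod p)
    (hconst : ∀ v w, v + e ≠ 0 → w + e ≠ 0 → g p v = g p w) :
    ∃ j, D = {j} ∨ D = Finset.univ.erase j := by
  classical
  haveI : NeZero p := ⟨hp.out.ne_zero⟩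
  haveI : NeZero ((p : ℕ) : ℚ) := ⟨by exact_mod_cast hp.out.ne_zero⟩
  haveI : IsCyclotomicExtension {p} ℚ (CyclotomicField p ℚ) :=
    CyclotomicField.isCyclotomicExtension p ℚ
  obtain ⟨ζ, hζ⟩ : ∃ ζ : (CyclotomicField p ℚ), IsPrimitiveRoot ζ p :=
    ⟨_, IsCyclotomicExtension.zeta_spec p ℚ (CyclotomicField p ℚ)⟩
  let z : ZMod p → (CyclotomicField p ℚ) := fun v => ζ ^ v.val
  have hzadd : ∀ v w, z (v + w) = z v * z w := fun v w => by
    show ζ ^ (v + w).val = ζ ^ v.val * ζ ^ w.val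
    rw [← pow_add, ZMod.val_add, ← pow_eq_pow_mod _ hζ.pow_eq_one]
  have hzsum : ∀ f : ZMod p → (CyclotomicField p ℚ),
      ∑ v, f v * z v = ∑ i ∈ Finset.range p, f (i : ZMod p) * ζ ^ i := by
    intro f
    refine Finset.sum_bij' (fun v _ => v.val) (fun i _ => (i : ZMod p)) ?_ ?_ ?_ ?_ ?_
    · exact fun v _ => Finset.mem_range.2 (ZMod.val_lt v)
    · exact fun i _ => Finset.mem_univ _
    · exact fun v _ => ZMod.natCast_zmod_val v
    · exact fun i hi => ZMod.val_cast_of_lt (Finset.mem_range.1 hi)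
    · exact fun v _ => by rw [ZMod.natCast_zmod_val]
  set S : (CyclotomicField p ℚ) := ∑ d ∈ D, z d with hS
  have hpow : ∀ n, ∑ v, (g n v : (CyclotomicField p ℚ)) * z v = S ^ n := by
    intro n
    induction n with
    | zero => simp [hg0, z]
    | succ n ih =>
        simp only [hg, Nat.cast_sum, Finset.sum_mul]
        rw [Finset.sum_comm, pow_succ', hS, Finset.sum_mul]
        refine Finset.sum_congr rfl fun d _ => ?_
        rw [← ih, Finset.mul_sum]
        refine Fintype.sum_equiv (Equiv.subRight d) _ _ fun v => ?_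
        rw [Equiv.subRight_apply, mul_left_comm, ← hzadd, add_sub_cancel]
  have hDc : ∀ (cf : ℕ → ℚ), (∑ i ∈ Finset.range p, (cf i : (CyclotomicField p ℚ)) * ζ ^ i = 0) →
      ∀ i < p, ∀ k < p, cf i = cf k := fun cf h i hi k hk =>
    (eq_last_of_sum_eq_zero hζ cf h i hi).trans (eq_last_of_sum_eq_zero hζ cf h k hk).symm
  have hSsum : S = ∑ v : ZMod p, (if v ∈ D then (1 : (CyclotomicField p ℚ)) else 0) * z v := by
    simp only [ite_mul, one_mul, zero_mul, hS, Finset.sum_ite_mem, Finset.univ_inter]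
  have hS0 : S ≠ 0 := by
    intro h0
    rw [hSsum, hzsum] at h0
    obtain ⟨d, hd⟩ := hD
    refine hDu (Finset.eq_univ_of_forall fun v => by_contra fun hv => ?_)
    have := hDc (fun i => if (i : ZMod p) ∈ D then 1 else 0)
      (by simpa [apply_ite (Rat.cast : ℚ → (CyclotomicField p ℚ))] using h0) d.val (ZMod.val_lt d) v.val (ZMod.val_lt v)
    simp [hd, hv] at this
  obtain ⟨v0, hv0⟩ : ∃ v0 : ZMod p, v0 + e ≠ 0 := ⟨1 - e, by simp⟩
  set β : (CyclotomicField p ℚ) := (g p v0 : (CyclotomicField p ℚ)) with hβ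
  have hz1 : ∑ v : ZMod p, z v = 0 := by
    simpa using (hzsum fun _ => 1).trans (by simpa using hζ.geom_sum_eq_zero hp.out.one_lt)
  have hSp : S ^ p = ((g p (-e) : (CyclotomicField p ℚ)) - β) * z (-e) := by
    have h1 : ∀ v : ZMod p, (g p v : (CyclotomicField p ℚ)) * z v =
        β * z v + if v = -e then ((g p (-e) : (CyclotomicField p ℚ)) - β) * z v else 0 := by
      intro v
      by_cases hv : v = -e
      · subst hv; rw [if_pos rfl]; ring
      · rw [if_neg hv, add_zero, hβ, hconst v v0 (fun h => hv (eq_neg_of_add_eq_zero_left h)) hv0]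
    rw [← hpow, Finset.sum_congr rfl fun v _ => h1 v, Finset.sum_add_distrib, ← Finset.mul_sum,
      hz1, mul_zero, zero_add, Finset.sum_ite_eq', if_pos (Finset.mem_univ _)]
  obtain ⟨c, j, hj, hSj⟩ := exists_eq_mul_pow hp2 hζ hS0 (e := e.val)
    (α := (g p (-e) : ℚ) - (g p v0 : ℚ)) (by
      rw [hSp, mul_assoc, show z (-e) * ζ ^ e.val = z (-e + e) from (hzadd _ _).symm]
      simp [z, hβ])
  refine ⟨(j : ZMod p), ?_⟩
  have hzero : ∑ i ∈ Finset.range p,
      (((if (i : ZMod p) ∈ D then 1 else 0) - (if i = j then c else 0) : ℚ) : (CyclotomicField p ℚ)) * ζ ^ i = 0 := by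
    simp only [Rat.cast_sub, sub_mul, Finset.sum_sub_distrib]
    rw [sub_eq_zero]
    rw [hSsum, hzsum] at hSj
    simpa [apply_ite (Rat.cast : ℚ → (CyclotomicField p ℚ)), ite_mul, Finset.mem_range.2 hj] using hSj
  have hall : ∀ v w : ZMod p, v ≠ (j : ZMod p) → w ≠ (j : ZMod p) → (v ∈ D ↔ w ∈ D) := by
    intro v w hv hw
    have hne : ∀ u : ZMod p, u ≠ (j : ZMod p) → u.val ≠ j :=
      fun u hu e => hu (by rw [← e, ZMod.natCast_zmod_val])
    have := hDc _ hzero v.val (ZMod.val_lt v) w.val (ZMod.val_lt w)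
    simp only [ZMod.natCast_zmod_val, if_neg (hne v hv), if_neg (hne w hw), sub_zero] at this
    constructor <;> intro h <;> by_contra h' <;> simp [h, h'] at this
  obtain ⟨v, hv⟩ : ∃ v : ZMod p, v ≠ (j : ZMod p) := exists_ne _
  by_cases hvD : v ∈ D
  · right
    ext w
    by_cases hw : w = (j : ZMod p)
    · subst hw
      simp only [Finset.mem_erase, ne_eq, not_true_eq_false, false_and, iff_false]
      intro hjD
      refine hDu (Finset.eq_univ_of_forall fun u => ?_)
      by_cases hu : u = (j : ZMod p)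
      · exact hu ▸ hjD
      · exact (hall v u hv hu).1 hvD
    · simp [hw, (hall v w hv hw).1 hvD]
  · left
    ext w
    rw [Finset.mem_singleton]
    refine ⟨fun hw => by_contra fun hne => hvD ((hall w v hne hv).1 hw), ?_⟩
    rintro rfl
    obtain ⟨d, hd⟩ := hD
    by_cases hdj : d = (j : ZMod p)
    · exact hdj ▸ hd
    · exact absurd ((hall d v hdj hv).1 hd) hvD

end Cfsg.Agent.Grp.SquarePlusOne
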