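import Cfsg.Agent.Lib.Grp.SquarePlusOne.Sylow
import Cfsg.Agent.Lib.Grp.SquarePlusOne.Cyclotomic
import Cfsg.Agent.S0675

/-!
A point stabiliser inside the kernel on the classes has exactly one fixed point in every class.
-/

set_option autoImplicit false

namespace Cfsg.Agent.Grp.SquarePlusOne

open MulAction

variable {G Ω : Type*} [Group G] [Finite G] [MulAction G Ω] {p : ℕ} [DecidableEq Ω] [Fintype Ω]
  [hp : Fact p.Prime] [FaithfulSMul G Ω] (r : Blocks G Ω p)

/-- The standing hypotheses at a point. -/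
structure Local (r : Blocks G Ω p) (a : Ω) extends Reg (G := G) (Ω := Ω) (p := p) a where
  hΩ : Fintype.card Ω = p ^ 2 + 1
  hfree : ∀ b, b ≠ a → ¬ p ∣ Nat.card ↥(stabilizer G a ⊓ stabilizer G b)

variable {r} {a : Ω} (L : Local r a)

include L

theorem exists_shift {u v : Ω} (h : v ∈ r.cls a u) : ∃ y ∈ L.P, y ∈ r.ker a ∧ y • u = v := by
  obtain ⟨y, hy, rfl⟩ := L.trans u v (r.ne' h) (r.ne h)
  exact ⟨y, hy, L.toReg.mem_ker r (r.ne' h) hy h, rfl⟩

theorem card_ker {u : Ω} (hu : u ≠ a) :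
    Nat.card (r.ker a) = p * Nat.card ↥(r.ker a ⊓ stabilizer G u) := by
  classical
  haveI := Fintype.ofFinite G
  have h := MulAction.card_orbit_mul_card_stabilizer_eq_card_group (r.ker a) u
  have hst : stabilizer (r.ker a) u = (r.ker a ⊓ stabilizer G u).subgroupOf (r.ker a) := by
    ext g
    simp [Subgroup.mem_subgroupOf, mem_stabilizer_iff, Subgroup.smul_def]
  have horb : orbit (r.ker a) u = (r.cls a u : Set Ω) := by
    ext v
    constructor
    · rintro ⟨k, rfl⟩; exact k.2.2 u hu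
    · intro hv
      obtain ⟨y, -, hy, rfl⟩ := exists_shift L (Finset.mem_coe.1 hv)
      exact ⟨⟨y, hy⟩, rfl⟩
  rw [← Nat.card_eq_fintype_card, ← Nat.card_eq_fintype_card, ← Nat.card_eq_fintype_card, hst,
    Nat.card_congr (Subgroup.subgroupOfEquivOfLe (inf_le_left :
      r.ker a ⊓ stabilizer G u ≤ r.ker a)).toEquiv, horb, Nat.card_coe_set_eq,
    Set.ncard_coe_finset, r.card hu] at h
  exact h.symm

theorem not_dvd_card_M {u : Ω} (hu : u ≠ a) : ¬ p ∣ Nat.card ↥(r.ker a ⊓ stabilizer G u) := by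
  intro h
  exact L.hfree u hu (h.trans (Subgroup.card_dvd_of_le
    (le_inf (inf_le_left.trans fun k hk => hk.1) inf_le_right)))

/-- A subgroup normal in the kernel either fixes a point or has order divisible by `p`. -/
theorem normal_fix_or_dvd {u : Ω} (hu : u ≠ a) (N : Subgroup (r.ker a)) [N.Normal] :
    (∀ n ∈ N, (n : G) • u = u) ∨ p ∣ Nat.card N := by
  classical
  set S : Subgroup (r.ker a) := (r.ker a ⊓ stabilizer G u).subgroupOf (r.ker a) with hS
  have hScard : Nat.card S = Nat.card ↥(r.ker a ⊓ stabilizer G u) :=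
    Nat.card_congr (Subgroup.subgroupOfEquivOfLe inf_le_left).toEquiv
  have hSidx : S.index = p := by
    have h := Subgroup.index_mul_card S
    rw [hScard, card_ker L hu] at h
    exact Nat.eq_of_mul_eq_mul_right Nat.card_pos h
  rcases (Nat.dvd_prime hp.out).1 (hSidx ▸ Subgroup.index_dvd_of_le (le_sup_right : S ≤ N ⊔ S)) with
    h | h
  · right
    have hmap : S.map (QuotientGroup.mk' N) = ⊤ := by
      rw [Subgroup.index_eq_one] at h
      have h1 : (N ⊔ S).map (QuotientGroup.mk' N) = ⊤ := by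
        rw [h, Subgroup.map_top_of_surjective _ (QuotientGroup.mk'_surjective N)]
      rwa [Subgroup.map_sup, QuotientGroup.map_mk'_self, bot_sup_eq] at h1
    have h1 := Subgroup.card_map_dvd (H := S) (QuotientGroup.mk' N)
    rw [hmap, Subgroup.card_top, ← Subgroup.index_eq_card] at h1
    have h2 : p * Nat.card S ∣ Nat.card N * Nat.card S := by
      rw [hScard, ← card_ker L hu, ← Subgroup.card_mul_index N]
      exact Nat.mul_dvd_mul_left _ (hScard ▸ h1)
    exact Nat.dvd_of_mul_dvd_mul_right Nat.card_pos h2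
  · left
    have heq : S = N ⊔ S := by
      refine Subgroup.eq_of_le_of_card_ge le_sup_right ?_
      have h1 := Subgroup.index_mul_card (N ⊔ S)
      have h2 := Subgroup.index_mul_card S
      rw [h] at h1; rw [hSidx] at h2
      exact (Nat.eq_of_mul_eq_mul_left hp.out.pos (h1.trans h2.symm)).le
    intro n hn
    have : n ∈ S := heq.symm ▸ Subgroup.mem_sup_left hn
    exact (Subgroup.mem_inf.1 (Subgroup.mem_subgroupOf.1 this)).2

/-- The kernel acts faithfully on each class. -/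
theorem eq_one_of_fix_class {b : Ω} (hb : b ≠ a) {k : G} (hk : k ∈ r.ker a)
    (h : ∀ v ∈ r.cls a b, k • v = v) : k = 1 := by
  classical
  let N : Subgroup (r.ker a) :=
    { carrier := {n | ∀ v ∈ r.cls a b, (n : G) • v = v}
      one_mem' := fun v _ => by simp
      mul_mem' := fun {n m} hn hm v hv => by
        rw [Subgroup.coe_mul, mul_smul, hm v hv, hn v hv]
      inv_mem' := fun {n} hn v hv => by
        rw [Subgroup.coe_inv, inv_smul_eq_iff, hn v hv] }
  haveI : N.Normal := ⟨fun n hn g v hv => by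
    have hv' : ((g⁻¹ : r.ker a) : G) • v ∈ r.cls a b := by
      rw [← r.eq hv]; exact (g⁻¹).2.2 v (r.ne hv)
    rw [Subgroup.coe_mul, Subgroup.coe_mul, mul_smul, mul_smul, hn _ hv', Subgroup.coe_inv,
      smul_inv_smul]⟩
  refine eq_of_smul_eq_smul (α := Ω) fun u => ?_
  rw [one_smul]
  by_cases hu : u = a
  · rw [hu]; exact hk.1
  rcases normal_fix_or_dvd L hu N with h1 | h1
  · exact h1 ⟨k, hk⟩ h
  · refine absurd ?_ (not_dvd_card_M L hb)
    have : N.map (r.ker a).subtype ≤ r.ker a ⊓ stabilizer G b := by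
      rintro _ ⟨n, hn, rfl⟩
      exact Subgroup.mem_inf.2 ⟨n.2, hn b (r.self hb)⟩
    rw [← Subgroup.card_map_of_injective (r.ker a).subtype_injective] at h1
    exact h1.trans (Subgroup.card_dvd_of_le this)

/-- A nontrivial point stabiliser in the kernel has at most one fixed point in a class. -/
theorem fixed_unique {b c c' : Ω} (hb : b ≠ a) (hM : r.ker a ⊓ stabilizer G b ≠ ⊥)
    (hc : c ≠ a) (hcc : c' ∈ r.cls a c)
    (h : ∀ g ∈ r.ker a, g • b = b → g • c = c) (h' : ∀ g ∈ r.ker a, g • b = b → g • c' = c') :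
    c' = c := by
  classical
  by_contra hne
  have heq : ∀ u, u ≠ a → (∀ g ∈ r.ker a, g • b = b → g • u = u) →
      r.ker a ⊓ stabilizer G b = r.ker a ⊓ stabilizer G u := by
    intro u hu hf
    refine Subgroup.eq_of_le_of_card_ge (fun g hg => Subgroup.mem_inf.2
      ⟨(Subgroup.mem_inf.1 hg).1, hf g (Subgroup.mem_inf.1 hg).1 (Subgroup.mem_inf.1 hg).2⟩) ?_
    exact (Nat.eq_of_mul_eq_mul_left hp.out.pos
      ((card_ker L hu).symm.trans (card_ker L hb))).le
  have h1 := heq c hc h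
  have h2 := heq c' (r.ne hcc) h'
  obtain ⟨y, -, hy, hyc⟩ := exists_shift L hcc
  set S : Subgroup (r.ker a) := (r.ker a ⊓ stabilizer G c).subgroupOf (r.ker a) with hS
  have hScard : Nat.card S = Nat.card ↥(r.ker a ⊓ stabilizer G c) :=
    Nat.card_congr (Subgroup.subgroupOfEquivOfLe inf_le_left).toEquiv
  have hSidx : S.index = p := by
    have h := Subgroup.index_mul_card S
    rw [hScard, card_ker L hc] at h
    exact Nat.eq_of_mul_eq_mul_right Nat.card_pos h
  have hmemS : ∀ g : r.ker a, g ∈ S ↔ (g : G) • c = c := fun g => by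
    simp [hS, Subgroup.mem_subgroupOf, mem_stabilizer_iff]
  have hmemS' : ∀ g : r.ker a, g ∈ S ↔ (g : G) • c' = c' := by
    intro g
    rw [hmemS]
    have := SetLike.ext_iff.1 (h1.symm.trans h2) (g : G)
    simpa [Subgroup.mem_inf, g.2, mem_stabilizer_iff] using this
  have hyN : (⟨y, hy⟩ : r.ker a) ∈ Subgroup.normalizer (S : Set (r.ker a)) := by
    rw [Subgroup.mem_normalizer_iff]
    intro g
    rw [hmemS' (_ * g * _), hmemS, Subgroup.coe_mul, Subgroup.coe_mul, Subgroup.coe_inv, mul_smul,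
      mul_smul, show y⁻¹ • c' = c from inv_smul_eq_iff.2 hyc.symm, ← hyc]
    exact (smul_left_cancel_iff y).symm
  have htop : Subgroup.normalizer (S : Set (r.ker a)) = ⊤ := by
    rw [← Subgroup.index_eq_one]
    rcases (Nat.dvd_prime hp.out).1 (hSidx ▸ Subgroup.index_dvd_of_le
      (Subgroup.le_normalizer (H := S))) with e | e
    · exact e
    · exfalso
      have he : S = Subgroup.normalizer (S : Set (r.ker a)) := by
        refine Subgroup.eq_of_le_of_card_ge Subgroup.le_normalizer ?_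
        have h3 := Subgroup.index_mul_card (Subgroup.normalizer (S : Set (r.ker a)))
        have h4 := Subgroup.index_mul_card S
        rw [e] at h3; rw [hSidx] at h4
        exact (Nat.eq_of_mul_eq_mul_left hp.out.pos (h3.trans h4.symm)).le
      refine hne ?_
      rw [← hyc]
      exact (hmemS ⟨y, hy⟩).1 (he ▸ hyN)
  refine hM ((Subgroup.eq_bot_iff_forall _).2 fun g hg => ?_)
  rw [h1] at hg
  refine eq_one_of_fix_class L hc (Subgroup.mem_inf.1 hg).1 fun v hv => ?_
  obtain ⟨z, -, hz, rfl⟩ := exists_shift L hv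
  have hgS : (⟨g, (Subgroup.mem_inf.1 hg).1⟩ : r.ker a) ∈ S := (hmemS _).2 (Subgroup.mem_inf.1 hg).2
  have h3 := (hmemS _).1 ((Subgroup.mem_normalizer_iff.1
    (show (⟨z, hz⟩ : r.ker a)⁻¹ ∈ Subgroup.normalizer (S : Set (r.ker a)) from
      htop ▸ Subgroup.mem_top _) _).1 hgS)
  simp only [inv_inv, Subgroup.coe_mul, Subgroup.coe_inv, mul_smul] at h3
  exact inv_smul_eq_iff.1 h3

/-- A normal subgroup of order `p` gives fixed points in every class. -/
theorem exists_fixed_of_normal {b c₀ : Ω} (hb : b ≠ a) (hc₀ : c₀ ≠ a)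
    (hM : r.ker a ⊓ stabilizer G b ≠ ⊥) (N : Subgroup G) (hNK : N ≤ r.ker a)
    (hN : Nat.card N = p) (hnorm : ∀ k ∈ r.ker a, ∀ n ∈ N, k * n * k⁻¹ ∈ N) :
    ∃ c ∈ r.cls a c₀, ∀ g ∈ r.ker a, g • b = b → g • c = c := by
  classical
  haveI := Fintype.ofFinite G
  haveI hcyc : IsCyclic N := isCyclic_of_prime_card hN
  have hbij : ∀ u, u ≠ a → ∀ v ∈ r.cls a u, ∃ n ∈ N, n • u = v := by
    intro u hu
    have hinj : ∀ n ∈ N, n • u = u → n = 1 := by
      intro n hn h
      by_contra h1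
      refine not_dvd_card_M L hu ?_
      have hord : orderOf n = p := by
        have := hN ▸ orderOf_dvd_natCard (⟨n, hn⟩ : N)
        rw [Subgroup.orderOf_mk] at this
        exact ((Nat.dvd_prime hp.out).1 this).resolve_left (by simpa using h1)
      exact (dvd_of_eq hord.symm).trans
        (Subgroup.orderOf_dvd_natCard _ (Subgroup.mem_inf.2 ⟨hNK hn, h⟩))
    let f : N → {v // v ∈ r.cls a u} := fun n => ⟨(n : G) • u, (hNK n.2).2 u hu⟩
    have hf : Function.Injective f := by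
      intro n m e
      have e' := congrArg Subtype.val e
      simp only [f] at e'
      refine Subtype.ext (inv_mul_eq_one.1 (hinj ((m : G)⁻¹ * n) (mul_mem (inv_mem m.2) n.2) ?_)).symm
      rw [mul_smul, e', inv_smul_smul]
    have hbij := (Fintype.bijective_iff_injective_and_card f).2 ⟨hf, by
      rw [← Nat.card_eq_fintype_card, hN, Fintype.card_coe, r.card hu]⟩
    intro v hv
    obtain ⟨n, hn⟩ := hbij.2 ⟨v, hv⟩
    exact ⟨n, n.2, congrArg Subtype.val hn⟩
  have hcent : ∀ k ∈ r.ker a, k • b = b → (∀ n ∈ N, k * n = n * k) → k = 1 := by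
    intro k hk hkb hc
    refine eq_one_of_fix_class L hb hk fun v hv => ?_
    obtain ⟨n, hn, rfl⟩ := hbij b hb v hv
    rw [← mul_smul, hc n hn, mul_smul, hkb]
  obtain ⟨k, hk, hk1⟩ := (r.ker a ⊓ stabilizer G b).bot_or_exists_ne_one.resolve_left hM
  obtain ⟨hkK, hkb⟩ := Subgroup.mem_inf.1 hk
  have hcomm : ∀ x ∈ N, ∀ y ∈ N, x * y = y * x := fun x hx y hy =>
    congrArg Subtype.val ((IsCyclic.commGroup (α := N)).mul_comm ⟨x, hx⟩ ⟨y, hy⟩)
  let φ : N → N := fun n => ⟨(n : G)⁻¹ * (k * n * k⁻¹), mul_mem (inv_mem n.2) (hnorm k hkK n n.2)⟩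
  have hφinj : Function.Injective φ := by
    intro n m e
    have e' : (n : G)⁻¹ * (k * n * k⁻¹) = (m : G)⁻¹ * (k * m * k⁻¹) := congrArg Subtype.val e
    set d := (n : G) * (m : G)⁻¹ with hd
    have hdN : d ∈ N := mul_mem n.2 (inv_mem m.2)
    have h1 : k * d * k⁻¹ = d := by
      have h2 : k * n * k⁻¹ = (n : G) * ((m : G)⁻¹ * (k * m * k⁻¹)) := by rw [← e']; group
      calc k * d * k⁻¹ = (k * n * k⁻¹) * (k * m * k⁻¹)⁻¹ := by rw [hd]; group
        _ = d := by rw [h2, hd]; group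
    by_contra hne
    have hd1 : d ≠ 1 := fun e1 => hne (Subtype.ext (mul_inv_eq_one.1 e1))
    refine hk1 (hcent k hkK hkb fun x hx => ?_)
    have hgen : (⟨x, hx⟩ : N) ∈ Subgroup.zpowers (⟨d, hdN⟩ : N) :=
      mem_zpowers_of_prime_card hN (fun e => hd1 (congrArg Subtype.val e))
    obtain ⟨i, hi⟩ := hgen
    have hx' : d ^ i = x := by simpa using congrArg Subtype.val hi
    rw [← hx']
    have h3 : Commute k d := by
      show k * d = d * k
      rw [← mul_inv_eq_iff_eq_mul]; exact h1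
    exact (h3.zpow_right i).eq
  obtain ⟨w, hw, hwc⟩ := hbij c₀ hc₀ (k • c₀) (hkK.2 c₀ hc₀)
  obtain ⟨n, hn⟩ := (Finite.injective_iff_surjective.1 hφinj) ⟨w⁻¹, inv_mem hw⟩
  have hn' : (n : G)⁻¹ * (k * n * k⁻¹) = w⁻¹ := congrArg Subtype.val hn
  set c := (n : G) • c₀ with hc
  have hcC : c ∈ r.cls a c₀ := (hNK n.2).2 c₀ hc₀
  have hkc : k • c = c := by
    rw [hc, ← mul_smul, show k * (n : G) = (n : G) * ((n : G)⁻¹ * (k * n * k⁻¹)) * k by group, hn',
      mul_smul, mul_smul, ← hwc, inv_smul_smul]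
  have huniq : ∀ c' ∈ r.cls a c₀, k • c' = c' → c' = c := by
    intro c' hc' hkc'
    obtain ⟨m, hm, rfl⟩ := hbij c₀ hc₀ c' hc'
    suffices φ ⟨m, hm⟩ = φ n by rw [hc, ← hφinj this]
    refine Subtype.ext ?_
    show m⁻¹ * (k * m * k⁻¹) = (n : G)⁻¹ * (k * n * k⁻¹)
    rw [hn']
    have h1 : (m⁻¹ * (k * m * k⁻¹) * w) • c₀ = c₀ := by
      rw [mul_smul, hwc, mul_smul, mul_smul, mul_smul, inv_smul_smul, hkc', inv_smul_smul]
    have hmem : m⁻¹ * (k * m * k⁻¹) * w ∈ N := mul_mem (mul_mem (inv_mem hm) (hnorm k hkK m hm)) hw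
    refine eq_inv_of_mul_eq_one_left ?_
    by_contra h2
    refine not_dvd_card_M L hc₀ ?_
    have hord : orderOf (m⁻¹ * (k * m * k⁻¹) * w) = p := by
      have := hN ▸ orderOf_dvd_natCard (⟨_, hmem⟩ : N)
      rw [Subgroup.orderOf_mk] at this
      exact ((Nat.dvd_prime hp.out).1 this).resolve_left (by simpa using h2)
    exact (dvd_of_eq hord.symm).trans
      (Subgroup.orderOf_dvd_natCard _ (Subgroup.mem_inf.2 ⟨hNK hmem, h1⟩))
  refine ⟨c, hcC, fun g hg hgb => huniq _ (by rw [← r.eq hcC]; exact hg.2 c (r.ne hcC)) ?_⟩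
  have hpow : ∀ x ∈ r.ker a, ∀ n0 ∈ N, n0 ≠ 1 → ∃ i : ℕ, x * n0 * x⁻¹ = n0 ^ i := by
    intro x hx n0 hn0 hn1
    have hgen : (⟨_, hnorm x hx n0 hn0⟩ : N) ∈ Subgroup.zpowers (⟨n0, hn0⟩ : N) :=
      mem_zpowers_of_prime_card hN (fun e => hn1 (congrArg Subtype.val e))
    obtain ⟨i, hi⟩ := mem_powers_iff_mem_zpowers.2 hgen
    exact ⟨i, by simpa using (congrArg Subtype.val hi).symm⟩
  have hgk : g * k = k * g := by
    refine inv_mul_eq_one.1 (hcent ((g * k)⁻¹ * (k * g))
      (mul_mem (inv_mem (mul_mem hg hkK)) (mul_mem hkK hg)) ?_ fun x hx => ?_)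
    · rw [mul_smul, mul_smul, hgb, hkb, inv_smul_eq_iff, mul_smul, hkb, hgb]
    · by_cases hx1 : x = 1
      · simp [hx1]
      obtain ⟨i, hi⟩ := hpow g hg x hx hx1
      obtain ⟨j, hj⟩ := hpow k hkK x hx hx1
      have h1 : g * (k * x * k⁻¹) * g⁻¹ = k * (g * x * g⁻¹) * k⁻¹ := by
        rw [hj, hi, ← conj_pow, ← conj_pow, hi, hj, ← pow_mul, ← pow_mul, mul_comm]
      calc (g * k)⁻¹ * (k * g) * x = (g * k)⁻¹ * (k * (g * x * g⁻¹) * k⁻¹) * (k * g) := by group
        _ = x * ((g * k)⁻¹ * (k * g)) := by rw [← h1]; group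
  rw [← mul_smul, ← hgk, mul_smul, hkc]

omit L in
/-- Number of paths along a relation. -/
def paths (O : Ω → Finset Ω) : ℕ → Ω → Ω → ℕ
  | 0, u, w => if u = w then 1 else 0
  | n + 1, u, w => ∑ v ∈ O u, paths O n v w

omit L in
theorem paths_smul (O : Ω → Finset Ω) {g : G} (hga : g • a = a)
    (hO : ∀ u, u ≠ a → O (g • u) = (O u).image (g • ·)) (hne : ∀ u, u ≠ a → ∀ v ∈ O u, v ≠ a) :
    ∀ n u w, u ≠ a → paths O n (g • u) (g • w) = paths O n u w := by
  intro n
  induction n with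
  | zero => intro u w _; simp [paths]
  | succ n ih =>
      intro u w hu
      simp only [paths]
      rw [hO u hu, Finset.sum_image fun x _ y _ e => smul_left_cancel g e]
      exact Finset.sum_congr rfl fun v hv => ih v w (hne u hu v hv)

/-- A stabiliser transitive on the rest of its class has fixed points in every class. -/
theorem exists_fixed_of_transitive (hp2 : p ≠ 2) {b c₀ : Ω} (hb : b ≠ a) (hc : c₀ ≠ a)
    (hc₀ : c₀ ∉ r.cls a b)
    (htr : ∀ v ∈ r.cls a b, ∀ w ∈ r.cls a b, v ≠ b → w ≠ b →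
      ∃ g ∈ r.ker a, g • b = b ∧ g • v = w) :
    ∃ c ∈ r.cls a c₀, ∀ g ∈ r.ker a, g • b = b → g • c = c := by
  classical
  haveI := Fintype.ofFinite G
  set M := r.ker a ⊓ stabilizer G b with hM
  obtain ⟨x, hxP, hxb⟩ := L.trans b c₀ hb hc
  obtain ⟨v1, hv1, hv1b⟩ := Finset.exists_mem_ne (by rw [r.card hb]; exact hp.out.one_lt) b
  obtain ⟨r0, hr0P, hr0K, hr0b⟩ := exists_shift L hv1
  have hxa : x • a = a := L.le hxP
  set R0 : Subgroup L.P := (r.ker a).subgroupOf L.P with hR0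
  have hfree := fun y hy u hu h => L.free y hy u hu h
  have hR0card : Nat.card R0 = p := by
    let f : R0 → {v // v ∈ r.cls a b} := fun y => ⟨((y : L.P) : G) • b, y.2.2 b hb⟩
    have hf : Function.Bijective f := by
      constructor
      · intro y z e
        refine Subtype.ext (Subtype.ext ?_)
        have e' := congrArg Subtype.val e
        simp only [f] at e'
        refine inv_mul_eq_one.1 (L.free _ (mul_mem (inv_mem (y : L.P).2) (z : L.P).2) b hb ?_)
        rw [mul_smul, ← e', inv_smul_smul]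
      · rintro ⟨v, hv⟩
        obtain ⟨y, hy, hyK, rfl⟩ := exists_shift L hv
        exact ⟨⟨⟨y, hy⟩, hyK⟩, rfl⟩
    rw [Nat.card_eq_of_bijective f hf, Nat.card_eq_fintype_card, Fintype.card_coe, r.card hb]
  have hr01 : r0 ≠ 1 := fun e => hv1b (by rw [← hr0b, e, one_smul])
  set r1 : R0 := ⟨⟨r0, hr0P⟩, hr0K⟩ with hr1
  have hr1v : ((r1 : L.P) : G) = r0 := rfl
  have hr1ne : r1 ≠ 1 := fun e => hr01 (congrArg (fun z : R0 => ((z : L.P) : G)) e)
  have hordr : orderOf r0 = p := by
    rw [← hr1v, Subgroup.orderOf_coe, Subgroup.orderOf_coe]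
    exact ((Nat.dvd_prime hp.out).1 ((orderOf_dvd_natCard r1).trans (dvd_of_eq hR0card))).resolve_left
      (fun e => hr1ne (orderOf_eq_one_iff.1 e))
  have hgen : ∀ y ∈ L.P, y ∈ r.ker a → ∃ v : ZMod p, r0 ^ v.val = y := by
    intro y hy hyK
    have hmem : (⟨⟨y, hy⟩, hyK⟩ : R0) ∈ Subgroup.zpowers r1 :=
      mem_zpowers_of_prime_card hR0card hr1ne
    obtain ⟨i, hi⟩ := mem_powers_iff_mem_zpowers.2 hmem
    refine ⟨(i : ZMod p), ?_⟩
    have hi' : ((r1 : L.P) : G) ^ i = y := by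
      rw [← Subgroup.coe_pow, ← Subgroup.coe_pow]
      exact congrArg (fun z : R0 => ((z : L.P) : G)) hi
    rw [ZMod.val_natCast, ← pow_eq_pow_mod _ (hordr ▸ pow_orderOf_eq_one r0), ← hr1v, hi']
  have hadd : ∀ v w : ZMod p, r0 ^ (v + w).val = r0 ^ v.val * r0 ^ w.val := fun v w => by
    rw [← pow_add, ZMod.val_add, ← pow_eq_pow_mod _ (hordr ▸ pow_orderOf_eq_one r0)]
  have hrinj : ∀ v : ZMod p, ∀ u, u ≠ a → r0 ^ v.val • u = u → v = 0 := by
    intro v u hu h
    have h1 := L.free _ (pow_mem hr0P _) u hu h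
    rw [← orderOf_dvd_iff_pow_eq_one, hordr] at h1
    exact (ZMod.val_eq_zero v).1 (Nat.eq_zero_of_dvd_of_lt h1 (ZMod.val_lt v))
  set O : Finset Ω := Finset.univ.filter fun u => ∃ g ∈ M, g • c₀ = u with hO
  have hOmem : ∀ u, u ∈ O ↔ ∃ g ∈ M, g • c₀ = u := fun u => by simp [hO]
  have hOC : ∀ u ∈ O, u ∈ r.cls a c₀ := by
    intro u hu
    obtain ⟨g, hg, rfl⟩ := (hOmem u).1 hu
    exact (Subgroup.mem_inf.1 hg).1.2 c₀ hc
  have hOM : ∀ g ∈ M, O.image (g • ·) = O := by
    intro g hg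
    refine Finset.eq_of_subset_of_card_le ?_ ?_
    · intro u hu
      obtain ⟨v, hv, rfl⟩ := Finset.mem_image.1 hu
      obtain ⟨h, hh, rfl⟩ := (hOmem v).1 hv
      exact (hOmem _).2 ⟨g * h, mul_mem hg hh, mul_smul _ _ _⟩
    · rw [Finset.card_image_of_injective _ (MulAction.injective g)]
  choose yf hyfP hyfb using fun u : {u : Ω // u ≠ a} => L.trans b u hb u.2
  set Os : Ω → Finset Ω := fun u => if h : u = a then ∅ else O.image (yf ⟨u, h⟩ • ·) with hOs
  have hOs' : ∀ y ∈ L.P, Os (y • b) = O.image (y • ·) := by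
    intro y hy
    have hne : y • b ≠ a := fun e => hb (smul_left_cancel y (e.trans (L.le hy).symm))
    simp only [hOs, dif_neg hne]
    have : yf ⟨_, hne⟩ = y := inv_mul_eq_one.1 (L.free _ (mul_mem (inv_mem (hyfP ⟨_, hne⟩)) hy) b hb
      (by rw [mul_smul, inv_smul_eq_iff, hyfb]))
    rw [this]
  have hOsne : ∀ u, u ≠ a → ∀ v ∈ Os u, v ≠ a := by
    intro u hu v hv e
    obtain ⟨y, hy, rfl⟩ := L.trans b u hb hu
    rw [hOs' y hy] at hv
    obtain ⟨w, hw, rfl⟩ := Finset.mem_image.1 hv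
    exact r.ne (hOC w hw) (smul_left_cancel y (e.trans (L.le hy).symm))
  have hOsK : ∀ g, g ∈ r.ker a ∨ g ∈ L.P → ∀ u, u ≠ a → Os (g • u) = (Os u).image (g • ·) := by
    intro g hg u hu
    obtain ⟨y, hy, rfl⟩ := L.trans b u hb hu
    rcases hg with hg | hg
    · obtain ⟨z, hz, hzb⟩ := L.trans b (g • y • b) hb
        (fun e => hu (smul_left_cancel g (e.trans hg.1.symm)))
      have hzy : y⁻¹ * z ∈ r.ker a := by
        refine L.toReg.mem_ker r hb (mul_mem (inv_mem hy) hz) ?_
        have h1 := r.mem_smul_fix (L.le (inv_mem hy)) (hg.2 (y • b) hu)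
        rwa [inv_smul_smul, ← hzb, ← mul_smul] at h1
      have hm : z⁻¹ * g * y ∈ M := by
        refine Subgroup.mem_inf.2 ⟨?_, ?_⟩
        · rw [show z⁻¹ * g * y = (y⁻¹ * z)⁻¹ * (y⁻¹ * g * y) by group]
          exact mul_mem (inv_mem hzy) (r.conj_mem_ker_self' (L.le hy) hg)
        · rw [mem_stabilizer_iff, mul_smul, mul_smul, ← hzb, inv_smul_smul]
      rw [← hzb, hOs' z hz, hOs' y hy, Finset.image_image]
      conv_lhs => rw [← hOM _ hm, Finset.image_image]
      refine Finset.image_congr fun w _ => ?_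
      simp only [Function.comp_apply, mul_smul, smul_inv_smul]
    · rw [← mul_smul, hOs' _ (mul_mem hg hy), hOs' y hy, Finset.image_image]
      exact Finset.image_congr fun w _ => mul_smul g y w
  set pt : ℕ → ZMod p → Ω := fun n v => (r0 ^ v.val * x ^ n) • b with hpt
  set D : Finset (ZMod p) := Finset.univ.filter fun d => pt 1 d ∈ O with hD
  have hpt1 : ∀ d, pt 1 d = r0 ^ d.val • c₀ := fun d => by simp [hpt, mul_smul, hxb]
  have hOeq : O = D.image (pt 1) := by
    ext u
    refine ⟨fun hu => ?_, fun hu => ?_⟩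
    · obtain ⟨y, hy, hyK, rfl⟩ := exists_shift L (hOC u hu)
      obtain ⟨d, rfl⟩ := hgen y hy hyK
      exact Finset.mem_image.2 ⟨d, Finset.mem_filter.2 ⟨Finset.mem_univ _, hpt1 d ▸ hu⟩, hpt1 d⟩
    · obtain ⟨d, hd, rfl⟩ := Finset.mem_image.1 hu
      exact (Finset.mem_filter.1 hd).2
  have hpt1inj : Function.Injective (pt 1) := by
    intro d d' e
    rw [hpt1, hpt1] at e
    refine sub_eq_zero.1 (hrinj (d - d') (r0 ^ d'.val • c₀) ?_ ?_)
    · exact fun e' => hc (smul_left_cancel (r0 ^ d'.val) (e'.trans (L.le (pow_mem hr0P _)).symm))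
    · rw [← mul_smul, ← hadd, sub_add_cancel, e]
  set g : ℕ → ZMod p → ℕ := fun n v => paths Os n b (pt n v) with hg
  have hrec : ∀ n v, g (n + 1) v = ∑ d ∈ D, g n (v - d) := by
    intro n v
    simp only [hg, paths]
    rw [show Os b = O by simpa using hOs' 1 (one_mem _), hOeq,
      Finset.sum_image fun _ _ _ _ e => hpt1inj e]
    refine Finset.sum_congr rfl fun d _ => ?_
    have hyP : r0 ^ d.val * x ∈ L.P := mul_mem (pow_mem hr0P _) hxP
    rw [← paths_smul Os (L.le hyP) (hOsK _ (Or.inr hyP)) hOsne n b (pt n (v - d)) hb]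
    congr 1
    · simp [hpt]
    · simp only [hpt, ← mul_smul]
      congr 1
      rw [mul_assoc (r0 ^ d.val), ← mul_assoc x, L.comm x hxP _ (pow_mem hr0P _), mul_assoc,
        ← mul_assoc (r0 ^ d.val), ← hadd, add_sub_cancel, pow_succ']
  have hg0 : ∀ v, g 0 v = if v = 0 then 1 else 0 := by
    intro v
    simp only [hg, paths, hpt, pow_zero, mul_one]
    by_cases hv : v = 0
    · simp [hv]
    · rw [if_neg hv, if_neg fun e => hv (hrinj v b hb e.symm)]
  obtain ⟨e, he⟩ : ∃ e : ZMod p, r0 ^ e.val = x ^ p := by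
    refine hgen _ (pow_mem hxP _) ?_
    haveI : R0.Normal := ⟨fun n hn y => by
      have hyn : y * n * y⁻¹ = n := Subtype.ext (by
        simp only [Subgroup.coe_mul, Subgroup.coe_inv]
        rw [L.comm _ y.2 _ n.2, mul_inv_cancel_right])
      rw [hyn]; exact hn⟩
    have hidx : R0.index = p := by
      have h := Subgroup.index_mul_card R0
      rw [hR0card, L.card_eq, sq] at h
      exact Nat.eq_of_mul_eq_mul_right hp.out.pos h
    have h := Subgroup.pow_index_mem R0 (⟨x, hxP⟩ : L.P)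
    rw [hidx] at h
    exact h
  have hptp : ∀ v, pt p v = r0 ^ (v + e).val • b := fun v => by rw [hpt, hadd, he]
  have hconst : ∀ v w, v + e ≠ 0 → w + e ≠ 0 → g p v = g p w := by
    intro v w hv hw
    have hmem : ∀ u : ZMod p, r0 ^ u.val • b ∈ r.cls a b := fun u => (pow_mem hr0K _).2 b hb
    obtain ⟨m, hmK, hmb, hm⟩ := htr _ (hmem (v + e)) _ (hmem (w + e))
      (fun h => hv (hrinj _ b hb h)) (fun h => hw (hrinj _ b hb h))
    have := paths_smul Os hmK.1 (hOsK m (Or.inl hmK)) hOsne p b (pt p v) hb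
    simp only [hg]
    rw [← this, hmb, hptp, hm, hptp]
  have hc₀O : c₀ ∈ O := (hOmem _).2 ⟨1, one_mem _, one_smul _ _⟩
  have hDne : D.Nonempty := ⟨0, Finset.mem_filter.2 ⟨Finset.mem_univ _, by
    simpa [hpt1] using hc₀O⟩⟩
  have hDu : D ≠ Finset.univ := by
    intro h
    have hcard : O.card = p := by
      rw [hOeq, Finset.card_image_of_injective _ hpt1inj, h, Finset.card_univ, ZMod.card]
    refine not_dvd_card_M L hb (dvd_trans (dvd_of_eq hcard.symm) ?_)
    have horb := MulAction.card_orbit_mul_card_stabilizer_eq_card_group M c₀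
    rw [← Nat.card_eq_fintype_card, ← Nat.card_eq_fintype_card, ← Nat.card_eq_fintype_card] at horb
    refine ⟨Nat.card (stabilizer M c₀), ?_⟩
    rw [← hM, ← horb]
    congr 1
    rw [Nat.card_coe_set_eq, ← Set.ncard_coe_finset]
    congr 1
    ext u
    simp only [hO, Finset.coe_filter, Finset.mem_univ, true_and, Set.mem_setOf_eq]
    exact ⟨fun ⟨⟨g, hg⟩, e⟩ => ⟨g, hg, e⟩, fun ⟨g, hg, e⟩ => ⟨⟨g, hg⟩, e⟩⟩
  obtain ⟨j, hj⟩ := singleton_or_compl hp2 D hDne hDu g hg0 hrec e hconst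
  refine ⟨pt 1 j, ?_, fun m hm hmb => ?_⟩
  · rw [hpt1]; exact (pow_mem hr0K _).2 c₀ hc
  have hmM : m ∈ M := Subgroup.mem_inf.2 ⟨hm, hmb⟩
  rcases hj with hj | hj
  · have h1 : m • pt 1 j ∈ O := by
      rw [← hOM m hmM]; exact Finset.mem_image_of_mem _ (by simp [hOeq, hj])
    simpa [hOeq, hj] using h1
  · by_contra hne
    have hjC : pt 1 j ∈ r.cls a c₀ := by rw [hpt1]; exact (pow_mem hr0K _).2 c₀ hc
    have h1 : m • pt 1 j ∈ r.cls a c₀ := by
      rw [← r.eq hjC]; exact hm.2 _ (r.ne hjC)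
    obtain ⟨y, hy, hyK, hyc⟩ := exists_shift L h1
    obtain ⟨d, rfl⟩ := hgen y hy hyK
    have hdj : d ≠ j := fun e => hne (by rw [← hyc, e, hpt1])
    have h2 : m • pt 1 j ∈ O := by
      rw [← hyc, ← hpt1, hOeq]
      exact Finset.mem_image_of_mem _ (by simp [hj, hdj])
    rw [← hOM m hmM] at h2
    obtain ⟨u, hu, e'⟩ := Finset.mem_image.1 h2
    rw [hOeq, hj] at hu
    obtain ⟨d', hd', rfl⟩ := Finset.mem_image.1 hu
    exact (Finset.mem_erase.1 hd').1 (hpt1inj (smul_left_cancel m e'))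

/-- A nontrivial point stabiliser in the kernel has a fixed point in every class. -/
theorem exists_fixed (hp2 : p ≠ 2) {b c₀ : Ω} (hb : b ≠ a) (hc₀ : c₀ ≠ a)
    (hM : r.ker a ⊓ stabilizer G b ≠ ⊥) :
    ∃ c ∈ r.cls a c₀, ∀ g ∈ r.ker a, g • b = b → g • c = c := by
  classical
  by_cases hcb : c₀ ∈ r.cls a b
  · exact ⟨b, r.symm hcb, fun g _ hgb => hgb⟩
  let sub : SubMulAction (r.ker a) Ω :=
    { carrier := (r.cls a b : Set Ω)
      smul_mem' := fun k u hu => by
        show (k : G) • u ∈ r.cls a b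
        rw [← r.eq (Finset.mem_coe.1 hu)]; exact k.2.2 u (r.ne (Finset.mem_coe.1 hu)) }
  let Cl := {v : Ω // v ∈ r.cls a b}
  letI : MulAction (r.ker a) Cl :=
    { smul := fun k v => ⟨(k : G) • (v : Ω), sub.smul_mem' k v.2⟩
      one_smul := fun v => Subtype.ext (one_smul G (v : Ω))
      mul_smul := fun k l v => Subtype.ext (mul_smul (k : G) (l : G) (v : Ω)) }
  have hsm : ∀ (k : r.ker a) (v : Cl), ((k • v : Cl) : Ω) = (k : G) • (v : Ω) := fun _ _ => rfl
  set φ := MulAction.toPermHom (r.ker a) Cl with hφ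
  have hφinj : Function.Injective φ := by
    rw [injective_iff_map_eq_one]
    intro k hk
    refine Subtype.ext (eq_one_of_fix_class L hb k.2 fun v hv => ?_)
    have h1 : φ k ⟨v, hv⟩ = (⟨v, hv⟩ : Cl) := by rw [hk]; rfl
    exact congrArg Subtype.val h1
  have hCl : Fintype.card Cl = p := by rw [Fintype.card_coe, r.card hb]
  haveI : MulAction.IsPretransitive ↥φ.range Cl := ⟨fun u v => by
    obtain ⟨y, -, hy, e⟩ := exists_shift L (u := (u : Ω)) (v := (v : Ω)) (by
      rw [r.eq u.2]; exact v.2)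
    exact ⟨⟨φ ⟨y, hy⟩, ⟨_, rfl⟩⟩, Subtype.ext e⟩⟩
  have hClp : (Fintype.card Cl).Prime := by rw [hCl]; exact hp.out
  rcases Cfsg.Agent.S0675.result hClp φ.range with hsol | h2
  · haveI := hsol
    haveI : Group.IsSolvable (r.ker a) :=
      Group.isSolvable_of_isSolvable_injective (f := φ.rangeRestrict)
        (fun x y e => hφinj (congrArg Subtype.val e))
    obtain ⟨n, hn⟩ := Group.IsSolvable.solvable (G := r.ker a)
    have hex : ∃ n, derivedSeries (r.ker a) n = ⊥ := ⟨n, hn⟩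
    set m := Nat.find hex with hm
    have hm0 : m ≠ 0 := by
      intro e
      have h := Nat.find_spec hex
      rw [← hm, e, derivedSeries_zero] at h
      refine hM ((Subgroup.eq_bot_iff_forall _).2 fun g hg => ?_)
      have h1 := Subgroup.mem_top (⟨g, (Subgroup.mem_inf.1 hg).1⟩ : r.ker a)
      rw [h] at h1
      exact congrArg Subtype.val (Subgroup.mem_bot.1 h1)
    set A := derivedSeries (r.ker a) (m - 1) with hA
    have hAne : A ≠ ⊥ := Nat.find_min hex (by omega)
    have hAc : ⁅A, A⁆ = ⊥ := by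
      have h := Nat.find_spec hex
      rw [← hm, show m = (m - 1) + 1 by omega, derivedSeries_succ] at h
      exact h
    haveI : A.Normal := derivedSeries_normal _ _
    have hnf : ¬ ∀ k ∈ A, (k : G) • b = b := by
      intro h
      refine hAne ((Subgroup.eq_bot_iff_forall _).2 fun k hk => ?_)
      refine Subtype.ext (eq_one_of_fix_class L hb k.2 fun v hv => ?_)
      obtain ⟨y, -, hy, rfl⟩ := exists_shift L hv
      have h1 := h _ ((inferInstance : A.Normal).conj_mem k hk ⟨y, hy⟩⁻¹)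
      simp only [inv_inv, Subgroup.coe_mul, Subgroup.coe_inv, mul_smul] at h1
      exact inv_smul_eq_iff.1 h1
    have hdvd := (normal_fix_or_dvd L hb A).resolve_left hnf
    obtain ⟨⟨n0, hn0A⟩, hn0ord⟩ := exists_prime_orderOf_dvd_card' p hdvd
    rw [Subgroup.orderOf_mk] at hn0ord
    have hfree0 : ∀ k ∈ A, (k : G) • b = b → k = 1 := by
      intro k hk hkb
      refine Subtype.ext (eq_one_of_fix_class L hb k.2 ?_)
      have hcl : ∀ z ∈ A, (k : G) • (z : G) • b = (z : G) • b := fun z hz => by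
        have hcomm := commutatorElement_eq_one_iff_commute.1 (Subgroup.mem_bot.1
          (hAc ▸ Subgroup.commutator_mem_commutator hk hz))
        rw [← mul_smul, ← Subgroup.coe_mul, hcomm.eq, Subgroup.coe_mul, mul_smul, hkb]
      intro v hv
      by_cases hvv : ∃ z ∈ A, (z : G) • b = v
      · obtain ⟨z, hz, rfl⟩ := hvv
        exact hcl z hz
      · exfalso
        apply hvv
        have hord : ∀ i, i < p → ((n0 ^ i : r.ker a) : G) • b = b → i = 0 := by
          intro i hi hfix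
          by_contra hi0
          refine not_dvd_card_M L hb ?_
          have hoi : orderOf ((n0 ^ i : r.ker a) : G) = p := by
            rw [Subgroup.orderOf_coe, Nat.Coprime.orderOf_pow, hn0ord]
            rw [hn0ord]
            exact Nat.coprime_of_lt_prime hi0 hi hp.out
          exact (dvd_of_eq hoi.symm).trans
            (Subgroup.orderOf_dvd_natCard _ (Subgroup.mem_inf.2 ⟨(n0 ^ i).2, hfix⟩))
        let f : Fin p → Cl := fun i => (n0 ^ (i : ℕ)) • (⟨b, r.self hb⟩ : Cl)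
        have hf : Function.Bijective f := by
          refine (Fintype.bijective_iff_injective_and_card f).2 ⟨fun i j e => ?_, by
            rw [Fintype.card_fin, hCl]⟩
          wlog hij : (i : ℕ) ≤ j generalizing i j
          · exact (this j i e.symm (le_of_not_ge hij)).symm
          have e' := congrArg Subtype.val e
          simp only [f, hsm] at e'
          have h3 := hord ((j : ℕ) - i) (by omega) (by
            rw [show (j : ℕ) = i + (j - i) by omega, pow_add, Subgroup.coe_mul, mul_smul] at e'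
            exact (smul_left_cancel _ e').symm)
          exact Fin.ext (by omega)
        obtain ⟨i, hi⟩ := hf.2 ⟨v, hv⟩
        exact ⟨n0 ^ (i : ℕ), pow_mem hn0A _, congrArg Subtype.val hi⟩
    have hAcard : Nat.card A = p := by
      refine le_antisymm ?_ (Nat.le_of_dvd Nat.card_pos hdvd)
      let f : A → Cl := fun k => (k : r.ker a) • (⟨b, r.self hb⟩ : Cl)
      have hf : Function.Injective f := by
        intro k l e
        have e' := congrArg Subtype.val e
        simp only [f, hsm] at e'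
        refine Subtype.ext ?_
        refine (inv_mul_eq_one.1 (hfree0 _ (mul_mem (inv_mem k.2) l.2) ?_))
        rw [Subgroup.coe_mul, Subgroup.coe_inv, mul_smul, ← e', inv_smul_smul]
      calc Nat.card A ≤ Nat.card Cl := Nat.card_le_card_of_injective f hf
        _ = p := by rw [Nat.card_eq_fintype_card, hCl]
    refine exists_fixed_of_normal L hb hc₀ hM (A.map (r.ker a).subtype) (Subgroup.map_subtype_le _)
      (by rw [Subgroup.card_map_of_injective (r.ker a).subtype_injective, hAcard]) ?_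
    rintro k hk _ ⟨z, hz, rfl⟩
    exact ⟨⟨k, hk⟩ * z * ⟨k, hk⟩⁻¹, (inferInstance : A.Normal).conj_mem z hz ⟨k, hk⟩, rfl⟩
  · refine exists_fixed_of_transitive L hp2 hb hc₀ hcb fun v hv w hw hvb hwb => ?_
    have h2f : ∀ {u v z t : Cl}, u ≠ v → z ≠ t → ∃ g : φ.range, g • u = z ∧ g • v = t :=
      MulAction.is_two_pretransitive_iff.1 h2
    have hne1 : (⟨b, r.self hb⟩ : Cl) ≠ ⟨v, hv⟩ := fun e => hvb (congrArg Subtype.val e).symm
    have hne2 : (⟨b, r.self hb⟩ : Cl) ≠ ⟨w, hw⟩ := fun e => hwb (congrArg Subtype.val e).symm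
    obtain ⟨⟨σ, k, rfl⟩, h1, h2'⟩ := h2f hne1 hne2
    exact ⟨k, k.2, congrArg Subtype.val h1, congrArg Subtype.val h2'⟩

end Cfsg.Agent.Grp.SquarePlusOne
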