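import Cfsg.Agent.Lib.Grp.SquarePlusOne.Config

/-!
Two transversal block systems are incompatible with two-transitivity.
-/

set_option autoImplicit false

namespace Cfsg.Agent.Grp.SquarePlusOne

variable {G Ω : Type*} [Group G] [MulAction G Ω] {p : ℕ} [DecidableEq Ω] [Fintype Ω]
  [hp : Fact p.Prime] (r s : Blocks G Ω p)

theorem exists_meet (hΩ : Fintype.card Ω = p ^ 2 + 1)
    (htr : ∀ a b c, c ∈ r.cls a b → c ∈ s.cls a b → c = b) {a u v : Ω} (hu : u ≠ a) (hv : v ≠ a) :
    ∃ w, w ∈ r.cls a u ∧ s.cls a w = s.cls a v := by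
  have hinj : Set.InjOn (s.cls a) (r.cls a u : Set Ω) := fun x hx y hy e =>
    htr a y x (by rw [r.eq (Finset.mem_coe.1 hy)]; exact hx) (e ▸ s.self (r.ne (Finset.mem_coe.1 hx)))
  have hsub : (r.cls a u).image (s.cls a) ⊆ (Finset.univ.erase a).image (s.cls a) :=
    Finset.image_subset_image fun x hx => Finset.mem_erase.2 ⟨r.ne hx, Finset.mem_univ _⟩
  have heq := Finset.eq_of_subset_of_card_le hsub (by
    rw [s.card_classes hΩ, Finset.card_image_of_injOn hinj, r.card hu])
  have := s.mem_classes hv
  rw [← heq, Finset.mem_image] at this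
  exact this

/-- An element fixing `a` and `b` and moving a class of each system has a number of fixed points
prime to `p`. -/
theorem not_dvd_card_fixed (hΩ : Fintype.card Ω = p ^ 2 + 1)
    (htr : ∀ a b c, c ∈ r.cls a b → c ∈ s.cls a b → c = b) {a b : Ω} (hba : b ≠ a) {g : G}
    (ha : g • a = a) (hb : g • b = b) (hr : g ∉ r.ker a) (hs : g ∉ s.ker a) :
    ¬ p ∣ ((Finset.univ.erase a).filter fun u => g • u = u).card := by
  classical
  set U := Finset.univ.erase a with hU
  have hmemU : ∀ u, u ∈ U ↔ u ≠ a := fun u => by simp [hU]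
  set RF := (U.filter fun u => g • u ∈ r.cls a u).image (r.cls a) with hRF
  set SF := (U.filter fun u => g • u ∈ s.cls a u).image (s.cls a) with hSF
  have hlt : ∀ t : Blocks G Ω p, g ∉ t.ker a →
      ((U.filter fun u => g • u ∈ t.cls a u).image (t.cls a)).card < p := by
    intro t ht
    obtain ⟨u, hua, hu⟩ : ∃ u, u ≠ a ∧ g • u ∉ t.cls a u := by
      by_contra h
      exact ht ⟨ha, fun u hu => by_contra fun hn => h ⟨u, hu, hn⟩⟩
    calc ((U.filter fun u => g • u ∈ t.cls a u).image (t.cls a)).card
        < (U.image (t.cls a)).card := by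
          refine Finset.card_lt_card ⟨Finset.image_subset_image (Finset.filter_subset _ _), ?_⟩
          intro hsub
          obtain ⟨w, hw, hwu⟩ := Finset.mem_image.1 (hsub (t.mem_classes hua))
          obtain ⟨hwU, hw⟩ := Finset.mem_filter.1 hw
          have hmem : u ∈ t.cls a w := hwu ▸ t.self hua
          exact hu (hwu ▸ t.moved_iff ha hmem hw)
      _ = p := t.card_classes hΩ a
  have hF : (U.filter fun u => g • u = u).card = RF.card * SF.card := by
    rw [← Finset.card_product]
    refine Finset.card_bij (fun u _ => (r.cls a u, s.cls a u)) ?_ ?_ ?_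
    · intro u hu
      obtain ⟨huU, hu⟩ := Finset.mem_filter.1 hu
      have hua := (hmemU u).1 huU
      refine Finset.mem_product.2 ⟨?_, ?_⟩
      · exact Finset.mem_image_of_mem _ (Finset.mem_filter.2 ⟨huU, by rw [hu]; exact r.self hua⟩)
      · exact Finset.mem_image_of_mem _ (Finset.mem_filter.2 ⟨huU, by rw [hu]; exact s.self hua⟩)
    · intro u hu v hv e
      simp only [Prod.mk.injEq] at e
      have hua := (hmemU u).1 (Finset.mem_filter.1 hu).1
      exact htr a v u (e.1 ▸ r.self hua) (e.2 ▸ s.self hua)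
    · rintro ⟨C, D⟩ hCD
      obtain ⟨hC, hD⟩ := Finset.mem_product.1 hCD
      obtain ⟨u, hu, rfl⟩ := Finset.mem_image.1 hC
      obtain ⟨v, hv, rfl⟩ := Finset.mem_image.1 hD
      obtain ⟨huU, hu⟩ := Finset.mem_filter.1 hu
      obtain ⟨hvU, hv⟩ := Finset.mem_filter.1 hv
      obtain ⟨w, hw, hwv⟩ := exists_meet r s hΩ htr ((hmemU u).1 huU) ((hmemU v).1 hvU)
      have hwa := r.ne hw
      refine ⟨w, Finset.mem_filter.2 ⟨(hmemU w).2 hwa, ?_⟩, by simp only [r.eq hw, hwv]⟩
      refine htr a w (g • w) ?_ ?_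
      · rw [r.eq hw]; exact r.moved_iff ha hw hu
      · rw [hwv]; exact s.moved_iff ha (hwv ▸ s.self hwa) hv
  intro hdvd
  rw [hF] at hdvd
  have hpos : 0 < (U.filter fun u => g • u = u).card :=
    Finset.card_pos.2 ⟨b, Finset.mem_filter.2 ⟨(hmemU b).2 hba, hb⟩⟩
  rw [hF] at hpos
  rcases hp.out.dvd_mul.1 hdvd with h | h
  · have := Nat.le_of_dvd (Nat.pos_of_mul_pos_right hpos) h
    have : RF.card < p := hlt r hr
    omega
  · have := Nat.le_of_dvd (Nat.pos_of_mul_pos_left hpos) h
    have : SF.card < p := hlt s hs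
    omega

/-- Two transversal systems, the second given by the fixed points of the two-point stabilisers
inside the kernels of the first, do not exist. -/
theorem grid_false (hΩ : Fintype.card Ω = p ^ 2 + 1) (h2 : TwoTrans G Ω)
    (htr : ∀ a b c, c ∈ r.cls a b → c ∈ s.cls a b → c = b)
    (hfix : ∀ a b v : Ω, b ≠ a → v ≠ a →
      ((∀ g ∈ r.ker a, g • b = b → g • v = v) ↔ v ∈ s.cls a b)) {a b : Ω} (hab : a ≠ b) :
    False := by
  classical
  have hN : ∀ n ∈ r.ker b, n • a = a → n ∈ r.ker a ∨ n ∈ s.ker a := by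
    intro n hn hna
    by_contra h
    push_neg at h
    apply not_dvd_card_fixed r s hΩ htr hab.symm hna hn.1 h.1 h.2
    have hdvd : p ∣ ((Finset.univ.erase b).filter fun u => n • u = u).card := by
      refine s.dvd_card_closed (a := b) (fun u hu => (Finset.mem_erase.1 (Finset.mem_filter.1 hu).1).1)
        fun u hu w hw => ?_
      obtain ⟨hu, hnu⟩ := Finset.mem_filter.1 hu
      refine Finset.mem_filter.2 ⟨Finset.mem_erase.2 ⟨s.ne hw, Finset.mem_univ _⟩, ?_⟩
      exact (hfix b u w (Finset.mem_erase.1 hu).1 (s.ne hw)).2 hw n hn hnu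
    rw [Finset.filter_erase, Finset.card_erase_of_mem (by simp [hn.1])] at hdvd
    rwa [Finset.filter_erase, Finset.card_erase_of_mem (by simp [hna])]
  have hcases : (∀ n ∈ r.ker b, n • a = a → n ∈ r.ker a) ∨
      (∀ n ∈ r.ker b, n • a = a → n ∈ s.ker a) := by
    by_contra h
    push_neg at h
    obtain ⟨⟨n, hn, hna, hnr⟩, m, hm, hma, hms⟩ := h
    have hns := (hN n hn hna).resolve_left hnr
    have hmr := (hN m hm hma).resolve_right hms
    rcases hN (n * m) (mul_mem hn hm) (by rw [mul_smul, hma, hna]) with h | h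
    · exact hnr (by simpa using mul_mem h (inv_mem hmr))
    · exact hms (by simpa using mul_mem (inv_mem hns) h)
  have hcard : ∀ (t : Blocks G Ω p) (x y : Ω), x ≠ y → (insert x (t.cls x y)).card = p + 1 :=
    fun t x y h => by rw [Finset.card_insert_of_notMem (t.notMem _ _), t.card h.symm]
  rcases hcases with hM | hL
  · refine steiner_false_of_pair s hΩ h2 hab (Finset.eq_of_subset_of_card_le ?_ ?_)
    · intro v hv
      rw [Finset.mem_insert] at hv ⊢
      by_cases hvb : v = b
      · exact Or.inl hvb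
      refine Or.inr ((hfix b a v hab hvb).1 fun n hn hna => ?_)
      rcases hv with rfl | hv
      · exact hna
      · exact (hfix a b v hab.symm (s.ne hv)).2 hv n (hM n hn hna) hn.1
    · rw [hcard s a b hab, hcard s b a hab.symm]
  · have hE0 : insert a (r.cls a b) = insert b (s.cls b a) := by
      refine Finset.eq_of_subset_of_card_le ?_ (by rw [hcard r a b hab, hcard s b a hab.symm])
      intro v hv
      rw [Finset.mem_insert] at hv ⊢
      by_cases hvb : v = b
      · exact Or.inl hvb
      refine Or.inr ((hfix b a v hab hvb).1 fun n hn hna => ?_)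
      rcases hv with rfl | hv
      · exact hna
      · have h1 : n • v ∈ r.cls a v := by
          rw [r.eq hv]; exact r.moved_iff hna hv (by rw [hn.1]; exact r.self hab.symm)
        exact htr a v _ h1 ((hL n hn hna).2 v (r.ne hv))
    have hE : ∀ c d, c ≠ d → ∀ x, x ∈ r.cls c d → x ≠ d → x ∈ s.cls d c := by
      intro c d hcd x hx hxd
      obtain ⟨g, rfl, rfl⟩ := h2 a b c d hab hcd
      have h1 : g⁻¹ • x ∈ insert a (r.cls a b) := by
        have := r.mem_smul g⁻¹ hx
        simp only [inv_smul_smul] at this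
        exact Finset.mem_insert_of_mem this
      rw [hE0, Finset.mem_insert] at h1
      rcases h1 with h1 | h1
      · exact absurd (by rw [← h1, smul_inv_smul]) hxd
      · have := s.mem_smul g h1
        rwa [smul_inv_smul] at this
    have hE' : ∀ c d, c ≠ d → ∀ x, x ∈ s.cls d c → x ≠ c → x ∈ r.cls c d := by
      intro c d hcd x hx hxc
      obtain ⟨g, rfl, rfl⟩ := h2 a b c d hab hcd
      have h1 : g⁻¹ • x ∈ insert b (s.cls b a) := by
        have := s.mem_smul g⁻¹ hx
        simp only [inv_smul_smul] at this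
        exact Finset.mem_insert_of_mem this
      rw [← hE0, Finset.mem_insert] at h1
      rcases h1 with h1 | h1
      · exact absurd (by rw [← h1, smul_inv_smul]) hxc
      · have := r.mem_smul g h1
        rwa [smul_inv_smul] at this
    obtain ⟨c, hc, hcb⟩ := Finset.exists_mem_ne (by rw [r.card hab.symm]; exact hp.out.one_lt) b
    have hca := r.ne hc
    have h1 : a ∈ s.cls b c := s.symm (hE a b hab c hc hcb)
    have h2' : a ∈ r.cls c b := hE' c b hcb a h1 hca.symm
    have h3 : b ∈ s.cls a c := hE c a hca b (r.symm h2') hab.symm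
    exact hcb (htr a b c hc (s.symm h3))

end Cfsg.Agent.Grp.SquarePlusOne
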