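import Cfsg.Agent.Lib.Grp.SquarePlusOne.Config

/-!
There is no Zassenhaus group of degree `p ^ 2 + 1` with small cyclic two-point stabilisers.
-/

set_option autoImplicit false

namespace Cfsg.Agent.Grp.SquarePlusOne

open MulAction

variable {G Ω : Type*} [Group G] [Finite G] [MulAction G Ω] {p : ℕ} [DecidableEq Ω] [Fintype Ω]
  [hp : Fact p.Prime] [FaithfulSMul G Ω]

omit [Finite G] [DecidableEq Ω] [FaithfulSMul G Ω] hp in
theorem involution_support [DecidableEq Ω] {u : G} (h2 : u * u = 1) :
    ∃ m, (Finset.univ.filter fun x : Ω => u • x ≠ x).card = 2 * m ∧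
      Equiv.Perm.sign (MulAction.toPerm u : Equiv.Perm Ω) = (-1) ^ m := by
  classical
  set σ : Equiv.Perm Ω := MulAction.toPerm u with hσ
  have hs : (Finset.univ.filter fun x : Ω => u • x ≠ x) = σ.support := by
    ext x
    simp [Equiv.Perm.mem_support, hσ]
  by_cases h1 : σ = 1
  · exact ⟨0, by rw [hs, h1, Equiv.Perm.support_one, Finset.card_empty], by rw [h1, map_one, pow_zero]⟩
  have hσ2 : σ ^ 2 = 1 := by
    ext x
    simp [hσ, sq, ← mul_smul, h2]
  obtain ⟨n, hn⟩ :=
    Equiv.Perm.cycleType_prime_order (σ := σ) ((orderOf_eq_prime hσ2 h1).symm ▸ Nat.prime_two)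
  rw [orderOf_eq_prime hσ2 h1] at hn
  refine ⟨n + 1, ?_, ?_⟩
  · rw [hs, ← Equiv.Perm.sum_cycleType, hn, Multiset.sum_replicate, smul_eq_mul, mul_comm]
  · rw [Equiv.Perm.sign_of_cycleType, hn, Multiset.sum_replicate, Multiset.card_replicate,
      smul_eq_mul, pow_add, mul_comm (n + 1) 2, pow_mul]
    simp

theorem zassenhaus_false (hp2 : p ≠ 2) (hΩ : Fintype.card Ω = p ^ 2 + 1) (h2 : TwoTrans G Ω)
    (hcard : ∀ a b : Ω, a ≠ b → Nat.card (stabilizer G a) =
      p ^ 2 * Nat.card ↥(stabilizer G a ⊓ stabilizer G b))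
    (hcyc : ∀ a b : Ω, a ≠ b → IsCyclic ↥(stabilizer G a ⊓ stabilizer G b) ∧
      Nat.card ↥(stabilizer G a ⊓ stabilizer G b) ≤ p - 1 ∧
      ∀ h : G, h • a = a → h • b = b → h ≠ 1 → ∀ v, h • v = v → v = a ∨ v = b) : False := by
  classical
  haveI := Fintype.ofFinite G
  have hp3 : 3 ≤ p := by have := hp.out.two_le; omega
  obtain ⟨q, hq⟩ := hp.out.odd_of_ne_two hp2
  have hpp : p ^ 2 + 1 = 2 * (2 * (q * q + q) + 1) := by rw [hq]; ring
  obtain ⟨a, b, hab⟩ : ∃ a b : Ω, a ≠ b := Fintype.exists_pair_of_one_lt_card (by omega)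
  have hh : ∀ c d : Ω, c ≠ d → Nat.card ↥(stabilizer G c ⊓ stabilizer G d) =
      Nat.card ↥(stabilizer G a ⊓ stabilizer G b) := by
    intro c d hcd
    obtain ⟨g, rfl, rfl⟩ := h2 a b c d hab hcd
    refine Nat.card_congr
      { toFun := fun x => ⟨g⁻¹ * x * g, ?_⟩
        invFun := fun x => ⟨g * x * g⁻¹, ?_⟩
        left_inv := fun x => Subtype.ext (by simp [mul_assoc])
        right_inv := fun x => Subtype.ext (by simp [mul_assoc]) }
    · obtain ⟨h1, h2'⟩ := Subgroup.mem_inf.1 x.2
      simp only [Subgroup.mem_inf, mem_stabilizer_iff, mul_smul, mem_stabilizer_iff.1 h1,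
        mem_stabilizer_iff.1 h2', inv_smul_smul, and_self]
    · obtain ⟨h1, h2'⟩ := Subgroup.mem_inf.1 x.2
      simp only [Subgroup.mem_inf, mem_stabilizer_iff, mul_smul, inv_smul_smul,
        mem_stabilizer_iff.1 h1, mem_stabilizer_iff.1 h2', and_self]
  set n := Nat.card ↥(stabilizer G a ⊓ stabilizer G b) with hn
  rcases Nat.even_or_odd n with heven | hodd
  · set I := (Finset.univ : Finset G).filter fun u => u * u = 1 ∧ u ≠ 1 ∧ ∃ c : Ω, u • c = c with hI
    set Pr := (Finset.univ ×ˢ Finset.univ : Finset (Ω × Ω)).filter fun x => x.1 ≠ x.2 with hPr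
    have hPrcard : Pr.card = (p ^ 2 + 1) * p ^ 2 := by
      have h1 : Pr = (Finset.univ : Finset Ω).offDiag := by
        ext x; simp [hPr, Finset.mem_offDiag]
      rw [h1, Finset.offDiag_card, Finset.card_univ, hΩ, Nat.mul_succ, Nat.add_sub_cancel]
    have hfix2 : ∀ u ∈ I, (Finset.univ.filter fun x : Ω => u • x = x).card = 2 := by
      intro u hu
      obtain ⟨hu2, hu1, c, hc⟩ := (Finset.mem_filter.1 hu).2
      obtain ⟨m, hm, -⟩ := involution_support (Ω := Ω) hu2
      have hsum := Finset.card_filter_add_card_filter_not (s := (Finset.univ : Finset Ω))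
        (fun x => u • x = x)
      rw [Finset.card_univ, hΩ, hm] at hsum
      have hpos : 0 < (Finset.univ.filter fun x : Ω => u • x = x).card :=
        Finset.card_pos.2 ⟨c, Finset.mem_filter.2 ⟨Finset.mem_univ _, hc⟩⟩
      have hlt : 1 < (Finset.univ.filter fun x : Ω => u • x = x).card := by omega
      obtain ⟨x, hx, hxc⟩ := Finset.exists_mem_ne hlt c
      have hxu := (Finset.mem_filter.1 hx).2
      have hle : (Finset.univ.filter fun x : Ω => u • x = x).card ≤ ({c, x} : Finset Ω).card := by
        refine Finset.card_le_card fun y hy => ?_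
        have := (hcyc c x hxc.symm).2.2 u hc hxu hu1 y (Finset.mem_filter.1 hy).2
        simpa using this
      rw [Finset.card_pair hxc.symm] at hle
      omega
    have hA := Finset.sum_card_bipartiteAbove_eq_sum_card_bipartiteBelow (s := I) (t := Pr)
      (r := fun u x => u • x.1 = x.1 ∧ u • x.2 = x.2)
    have hA1 : ∀ u ∈ I, (Pr.filter fun x => u • x.1 = x.1 ∧ u • x.2 = x.2).card = 2 := by
      intro u hu
      have h1 : (Pr.filter fun x => u • x.1 = x.1 ∧ u • x.2 = x.2) =
          (Finset.univ.filter fun x : Ω => u • x = x).offDiag := by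
        ext x; simp [hPr, Finset.mem_offDiag]; tauto
      rw [h1, Finset.offDiag_card, hfix2 u hu]
    have hA2 : ∀ x ∈ Pr, (I.filter fun u => u • x.1 = x.1 ∧ u • x.2 = x.2).card = 1 := by
      intro x hx
      have hx' := (Finset.mem_filter.1 hx).2
      set H := stabilizer G x.1 ⊓ stabilizer G x.2 with hH
      obtain ⟨hc, -, -⟩ := hcyc x.1 x.2 hx'
      haveI := hc
      have hdvd : 2 ∣ Nat.card H := by rw [hH, hh _ _ hx']; exact heven.two_dvd
      obtain ⟨z, hz⟩ := exists_prime_orderOf_dvd_card' 2 hdvd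
      have hz2 : z * z = 1 := by rw [← sq, ← hz, pow_orderOf_eq_one]
      have hz1 : z ≠ 1 := fun e => by rw [e, orderOf_one] at hz; omega
      obtain ⟨hza, hzb⟩ := Subgroup.mem_inf.1 z.2
      rw [Finset.card_eq_one]
      refine ⟨(z : G), Finset.ext fun u => ?_⟩
      rw [Finset.mem_singleton]
      constructor
      · intro hu
        obtain ⟨huI, hua, hub⟩ := Finset.mem_filter.1 hu
        obtain ⟨hu2, hu1, -⟩ := (Finset.mem_filter.1 huI).2
        let u' : H := ⟨u, Subgroup.mem_inf.2 ⟨hua, hub⟩⟩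
        by_contra hne
        have h3 := IsCyclic.card_pow_eq_one_le (α := H) (n := 2) two_pos
        have hsub : ({1, z, u'} : Finset H) ⊆ Finset.univ.filter fun y : H => y ^ 2 = 1 := by
          intro y hy
          simp only [Finset.mem_insert, Finset.mem_singleton] at hy
          refine Finset.mem_filter.2 ⟨Finset.mem_univ _, ?_⟩
          rcases hy with rfl | rfl | rfl
          · exact one_pow 2
          · rw [sq, hz2]
          · exact Subtype.ext (by simp [u', sq, hu2])
        have h4 := Finset.card_le_card hsub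
        have hcard3 : ({1, z, u'} : Finset H).card = 3 :=
          Finset.card_eq_three.2 ⟨1, z, u', hz1.symm, fun e => hu1 (congrArg Subtype.val e).symm,
            fun e => hne (congrArg Subtype.val e).symm, rfl⟩
        have h5 : (Finset.univ.filter fun y : H => y ^ 2 = 1).card ≤ 2 := by convert h3
        omega
      · rintro rfl
        refine Finset.mem_filter.2 ⟨Finset.mem_filter.2 ⟨Finset.mem_univ _, ?_, ?_, ⟨x.1, hza⟩⟩, hza, hzb⟩
        · simpa using congrArg Subtype.val hz2
        · exact fun e => hz1 (Subtype.ext e)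
    simp only [Finset.bipartiteAbove, Finset.bipartiteBelow] at hA
    rw [Finset.sum_const_nat hA1, Finset.sum_const_nat hA2, mul_one, hPrcard] at hA
    have hB := Finset.sum_card_bipartiteAbove_eq_sum_card_bipartiteBelow (s := I) (t := Pr)
      (r := fun u x => u • x.1 = x.2 ∧ u • x.2 = x.1)
    have hB1 : ∀ u ∈ I, p ^ 2 - 1 ≤ (Pr.filter fun x => u • x.1 = x.2 ∧ u • x.2 = x.1).card := by
      intro u hu
      have hu2 := ((Finset.mem_filter.1 hu).2).1
      have h1 : (Finset.univ.filter fun x : Ω => u • x ≠ x).card ≤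
          (Pr.filter fun x => u • x.1 = x.2 ∧ u • x.2 = x.1).card := by
        refine Finset.card_le_card_of_injOn (fun x => (x, u • x)) (fun x hx => ?_)
          (fun x _ y _ e => congrArg Prod.fst e)
        have hx' := (Finset.mem_filter.1 hx).2
        simp [hPr, ← mul_smul, hu2, Ne.symm hx']
      have hsum := Finset.card_filter_add_card_filter_not (s := (Finset.univ : Finset Ω))
        (fun x => u • x = x)
      rw [Finset.card_univ, hΩ, hfix2 u hu] at hsum
      have he : (Finset.univ.filter fun x : Ω => u • x ≠ x).card + 2 = p ^ 2 + 1 := by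
        rw [← hsum, add_comm]
      omega
    have hB2 : ∀ x ∈ Pr, (I.filter fun u => u • x.1 = x.2 ∧ u • x.2 = x.1).card ≤ n := by
      intro x hx
      have hx' := (Finset.mem_filter.1 hx).2
      rcases Finset.eq_empty_or_nonempty
        (I.filter fun u => u • x.1 = x.2 ∧ u • x.2 = x.1) with h | ⟨g, hg⟩
      · rw [h, Finset.card_empty]; exact Nat.zero_le _
      obtain ⟨-, hg1, hg2⟩ := Finset.mem_filter.1 hg
      rw [← hh _ _ hx', Nat.card_eq_fintype_card, ← Fintype.card_coe]
      refine Fintype.card_le_of_injective (fun u => ⟨g⁻¹ * (u : G), ?_⟩) ?_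
      · obtain ⟨-, h1, h2'⟩ := Finset.mem_filter.1 u.2
        simp [Subgroup.mem_inf, mem_stabilizer_iff, mul_smul, h1, h2', inv_smul_eq_iff, hg1, hg2]
      · exact fun u v e => Subtype.ext (mul_left_cancel (congrArg Subtype.val e))
    simp only [Finset.bipartiteAbove, Finset.bipartiteBelow] at hB
    have h3 : I.card * (p ^ 2 - 1) ≤ Pr.card * n := by
      calc I.card * (p ^ 2 - 1) ≤ ∑ u ∈ I, (Pr.filter fun x => u • x.1 = x.2 ∧ u • x.2 = x.1).card := by
            rw [← smul_eq_mul]; exact Finset.card_nsmul_le_sum _ _ _ hB1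
        _ = _ := hB
        _ ≤ Pr.card * n := by rw [← smul_eq_mul]; exact Finset.sum_le_card_nsmul _ _ _ hB2
    rw [hPrcard, ← hA, mul_assoc] at h3
    have hIpos : 0 < I.card := by
      rcases Nat.eq_zero_or_pos I.card with e | e
      · rw [e, zero_mul] at hA
        have := Nat.mul_pos (by omega : 0 < p ^ 2 + 1) (pow_pos hp.out.pos 2)
        omega
      · exact e
    have h4 := Nat.le_of_mul_le_mul_left h3 hIpos
    have h5 : n ≤ p - 1 := (hcyc a b hab).2.1
    have h6 : 3 * p ≤ p ^ 2 := by rw [sq]; exact Nat.mul_le_mul_right _ hp3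
    omega
  · have hG2 : 2 ∣ Nat.card G := by
      haveI : IsPretransitive G Ω := ⟨fun x y => by
        obtain ⟨z, hz⟩ := Fintype.exists_ne_of_one_lt_card (by omega : 1 < Fintype.card Ω) x
        obtain ⟨w, hw⟩ := Fintype.exists_ne_of_one_lt_card (by omega : 1 < Fintype.card Ω) y
        obtain ⟨g, hg, -⟩ := h2 x z y w hz.symm hw.symm
        exact ⟨g, hg⟩⟩
      rw [← Subgroup.index_mul_card (stabilizer G a), MulAction.index_stabilizer_of_transitive,
        Nat.card_eq_fintype_card, hΩ, hpp, mul_assoc]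
      exact dvd_mul_right 2 _
    obtain ⟨u, hu⟩ := exists_prime_orderOf_dvd_card' 2 hG2
    have hoddA : ∀ c : Ω, Odd (Nat.card (stabilizer G c)) := by
      intro c
      obtain ⟨d, hd⟩ := Fintype.exists_ne_of_one_lt_card (by omega : 1 < Fintype.card Ω) c
      rw [hcard c d hd.symm, hh c d hd.symm]
      exact ((hp.out.odd_of_ne_two hp2).pow).mul hodd
    have hnofix : ∀ c : Ω, u • c ≠ c := by
      intro c hc
      have h1 := orderOf_dvd_natCard (⟨u, hc⟩ : stabilizer G c)
      rw [← Subgroup.orderOf_coe, hu] at h1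
      obtain ⟨k, hk⟩ := hoddA c
      obtain ⟨j, hj⟩ := h1
      omega
    set ε : G →* ℤˣ := (Equiv.Perm.sign).comp (MulAction.toPermHom G Ω) with hε
    have hεA : ∀ (c : Ω) (g : G), g • c = c → ε g = 1 := by
      intro c g hg
      obtain ⟨k, hk⟩ := hoddA c
      have h1 : g ^ Nat.card (stabilizer G c) = 1 := by
        have := congrArg Subtype.val (pow_card_eq_one' (x := (⟨g, hg⟩ : stabilizer G c)))
        simpa using this
      have h2' := congrArg ε h1
      rw [map_pow, map_one, hk, pow_succ, pow_mul, Int.units_sq, one_pow, one_mul] at h2'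
      exact h2'
    have hεu : ε u = -1 := by
      obtain ⟨m, hm, hs⟩ := involution_support (Ω := Ω) (u := u)
        (by rw [← sq, ← hu, pow_orderOf_eq_one])
      rw [Finset.filter_true_of_mem fun x _ => hnofix x, Finset.card_univ, hΩ, hpp] at hm
      have hm' : m = 2 * (q * q + q) + 1 := by omega
      rw [hε, MonoidHom.comp_apply, MulAction.toPermHom_apply, hs, hm']
      exact Odd.neg_one_pow ⟨_, rfl⟩
    obtain ⟨d, hd, hd'⟩ : ∃ d, d ≠ a ∧ d ≠ u • a := by
      by_contra h
      push Not at h
      have : (Finset.univ : Finset Ω).card ≤ ({a, u • a} : Finset Ω).card :=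
        Finset.card_le_card fun x _ => by
          by_cases hx : x = a
          · simp [hx]
          · simp [h x hx]
      rw [Finset.card_pair (hnofix a).symm, Finset.card_univ, hΩ, hpp] at this
      have : 0 < q * q + q := by
        have : 1 ≤ q := by omega
        nlinarith
      omega
    obtain ⟨g, hgd, hga⟩ := h2 d a d (u • a) hd hd'
    have h1 := hεA d g hgd
    have h2' := hεA a (g⁻¹ * u) (by rw [mul_smul, inv_smul_eq_iff, hga])
    rw [map_mul, map_inv, h1, inv_one, one_mul, hεu] at h2'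
    exact absurd h2' (by decide)

end Cfsg.Agent.Grp.SquarePlusOne
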