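import Cfsg.Agent.Lib.Grp.SquarePlusOne.Central
import Cfsg.Agent.Lib.Grp.SquarePlusOne.Zassenhaus

/-!
Two-transitive groups of degree `p ^ 2 + 1` are doubly primitive or of order 20.
-/

set_option autoImplicit false

namespace Cfsg.Agent.Grp.SquarePlusOne

open MulAction
open scoped Pointwise

variable {G Ω : Type*} [Group G] [Finite G] [MulAction G Ω] {p : ℕ} [DecidableEq Ω] [Fintype Ω]
  [hp : Fact p.Prime] [FaithfulSMul G Ω]

omit [FaithfulSMul G Ω] [Finite G] in
theorem exists_blocks (hΩ : Fintype.card Ω = p ^ 2 + 1) (h2 : TwoTrans G Ω) (a : Ω)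
    (h : ¬ IsPreprimitive (stabilizer G a) (SubMulAction.ofStabilizer G a)) :
    Nonempty (Blocks G Ω p) := by
  classical
  haveI htr : IsPretransitive (stabilizer G a) (SubMulAction.ofStabilizer G a) := ⟨fun x y => by
    obtain ⟨g, hga, hgx⟩ := h2 a x a y (Ne.symm x.2) (Ne.symm y.2)
    exact ⟨⟨g, hga⟩, Subtype.ext hgx⟩⟩
  obtain ⟨B, hB, hBn⟩ : ∃ B : Set (SubMulAction.ofStabilizer G a),
      IsBlock (stabilizer G a) B ∧ ¬ IsTrivialBlock B := by
    by_contra hh
    push Not at hh
    exact h { exists_smul_eq := htr.exists_smul_eq, isTrivialBlock_of_isBlock := fun {B} hB => hh B hB }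
  have hXcard : Nat.card (SubMulAction.ofStabilizer G a) = p ^ 2 := by
    rw [Nat.card_eq_fintype_card]
    have : Fintype.card (SubMulAction.ofStabilizer G a) = Fintype.card {x : Ω // x ≠ a} :=
      Fintype.card_congr (Equiv.subtypeEquivRight fun x => Iff.rfl)
    rw [this, Fintype.card_subtype_compl, hΩ]
    simp
  rw [IsTrivialBlock, not_or, Set.not_subsingleton_iff] at hBn
  have hBne : B.Nonempty := hBn.1.nonempty
  have hBcard : B.ncard = p := by
    have h1 := hB.ncard_dvd_card hBne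
    rw [hXcard] at h1
    obtain ⟨i, hi, hi'⟩ := (Nat.dvd_prime_pow hp.out).1 h1
    have h3 : 1 < B.ncard := Set.one_lt_ncard_iff_nontrivial.2 hBn.1
    interval_cases i
    · rw [pow_zero] at hi'; omega
    · rwa [pow_one] at hi'
    · exfalso
      exact hBn.2 (Set.eq_of_subset_of_ncard_le (Set.subset_univ _)
        (by rw [Set.ncard_univ, hXcard, hi']) (Set.toFinite _))
  set B0 : Finset Ω := Finset.univ.filter fun v => ∃ x ∈ B, (x : Ω) = v with hB0
  have hB0mem : ∀ v, v ∈ B0 ↔ ∃ x ∈ B, (x : Ω) = v := fun v => by simp [hB0]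
  have haB0 : a ∉ B0 := fun ha => by
    obtain ⟨x, -, hx⟩ := (hB0mem a).1 ha
    exact x.2 hx
  have hB0card : B0.card = p := by
    rw [← hBcard, ← Set.ncard_image_of_injective B Subtype.val_injective, ← Set.ncard_coe_finset]
    congr 1
    ext v
    simp [hB0]
  have hblock : ∀ k : G, k • a = a → ∀ v ∈ B0, k • v ∈ B0 → ∀ w ∈ B0, k • w ∈ B0 := by
    intro k hk v hv hkv w hw
    obtain ⟨x, hx, rfl⟩ := (hB0mem v).1 hv
    obtain ⟨y, hy, rfl⟩ := (hB0mem w).1 hw
    obtain ⟨z, hz, hzx⟩ := (hB0mem _).1 hkv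
    let k' : stabilizer G a := ⟨k, hk⟩
    have hkx : k' • x ∈ B := by
      have : k' • x = z := Subtype.ext hzx.symm
      rw [this]; exact hz
    have heq : k' • B = B := by
      by_contra hne
      exact Set.disjoint_left.1 (isBlock_iff_smul_eq_or_disjoint.1 hB k' |>.resolve_left hne)
        (Set.smul_mem_smul_set hx) hkx
    have h3 : k' • y ∈ k' • B := Set.smul_mem_smul_set hy
    rw [heq] at h3
    exact (hB0mem _).2 ⟨k' • y, h3, rfl⟩
  obtain ⟨b0, hb0⟩ := Finset.card_pos.1 (hB0card.symm ▸ hp.out.pos)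
  let cls : Ω → Ω → Finset Ω := fun c d =>
    Finset.univ.filter fun v => ∃ g : G, g • a = c ∧ g⁻¹ • d ∈ B0 ∧ g⁻¹ • v ∈ B0
  have hmem : ∀ c d v, v ∈ cls c d ↔ ∃ g : G, g • a = c ∧ g⁻¹ • d ∈ B0 ∧ g⁻¹ • v ∈ B0 :=
    fun c d v => by simp [cls]
  have hkey : ∀ (g : G) (d v : Ω), g⁻¹ • d ∈ B0 → (v ∈ cls (g • a) d ↔ g⁻¹ • v ∈ B0) := by
    intro g d v hd
    refine ⟨fun hv => ?_, fun hv => (hmem _ _ _).2 ⟨g, rfl, hd, hv⟩⟩
    obtain ⟨g', hg', hd', hv'⟩ := (hmem _ _ _).1 hv
    have h1 := hblock (g⁻¹ * g') (by rw [mul_smul, hg', inv_smul_smul]) _ hd'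
      (by rwa [mul_smul, smul_inv_smul]) _ hv'
    rwa [mul_smul, smul_inv_smul] at h1
  have hex : ∀ c d, d ≠ c → ∃ g : G, g • a = c ∧ g⁻¹ • d ∈ B0 := by
    intro c d hd
    obtain ⟨g, hg, hg'⟩ := h2 a b0 c d (fun e => haB0 (e ▸ hb0)) hd.symm
    exact ⟨g, hg, by rw [← hg', inv_smul_smul]; exact hb0⟩
  refine ⟨{ cls := cls
            self := fun {c d} hd => ?_
            notMem := fun c d hc => ?_
            diag := fun c => ?_
            eq := fun {c d v} hv => ?_
            card := fun {c d} hd => ?_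
            mem_smul := fun g {c d v} hv => ?_ }⟩
  · obtain ⟨g, hg, hg'⟩ := hex c d hd
    exact (hmem _ _ _).2 ⟨g, hg, hg', hg'⟩
  · obtain ⟨g, hg, -, hg'⟩ := (hmem _ _ _).1 hc
    rw [← hg, inv_smul_smul] at hg'
    exact haB0 hg'
  · rw [Finset.eq_empty_iff_forall_notMem]
    intro v hv
    obtain ⟨g, hg, hg', -⟩ := (hmem _ _ _).1 hv
    rw [← hg, inv_smul_smul] at hg'
    exact haB0 hg'
  · obtain ⟨g, rfl, hd, hv'⟩ := (hmem _ _ _).1 hv
    ext w
    rw [hkey g v w hv', hkey g d w hd]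
  · obtain ⟨g, rfl, hd'⟩ := hex c d hd
    rw [← hB0card]
    refine Finset.card_bij (fun v _ => g⁻¹ • v) (fun v hv => (hkey g d v hd').1 hv)
      (fun v _ w _ e => smul_left_cancel _ e) fun w hw => ⟨g • w, ?_, inv_smul_smul g w⟩
    rw [hkey g d _ hd', inv_smul_smul]
    exact hw
  · obtain ⟨k, rfl, hd, hv'⟩ := (hmem _ _ _).1 hv
    refine (hmem _ _ _).2 ⟨g * k, mul_smul g k a, ?_, ?_⟩
    · rwa [mul_inv_rev, mul_smul, inv_smul_smul]
    · rwa [mul_inv_rev, mul_smul, inv_smul_smul]

theorem card_twenty (r : Blocks G Ω p) (hp2 : p = 2) (hΩ : Fintype.card Ω = p ^ 2 + 1)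
    (h2 : TwoTrans G Ω) : Nat.card G = 20 := by
  classical
  subst hp2
  obtain ⟨a, b, hab⟩ : ∃ a b : Ω, a ≠ b := Fintype.exists_pair_of_one_lt_card (by omega)
  have hodd := not_dvd_card_two hΩ h2 r hab
  have hbot : stabilizer G a ⊓ stabilizer G b = ⊥ := by
    refine (Subgroup.eq_bot_iff_forall _).2 fun g hg => ?_
    obtain ⟨hga, hgb⟩ := Subgroup.mem_inf.1 hg
    have hga' : g • a = a := hga
    have hgb' : g • b = b := hgb
    have hsq : g * g = 1 := by
      refine eq_of_smul_eq_smul (α := Ω) fun u => ?_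
      rw [mul_smul, one_smul]
      by_cases hu : u = a
      · rw [hu, hga', hga']
      have hgu : g • u ≠ a := fun e => hu (smul_left_cancel g (e.trans hga'.symm))
      have hin : g • u ∈ r.cls a u := by
        by_contra hn
        have hne : r.cls a (g • u) ≠ r.cls a u := fun e => hn (e ▸ r.self hgu)
        by_cases hbu : u ∈ r.cls a b
        · apply hn
          rw [r.eq hbu]
          exact r.moved_iff hga' hbu (by rw [hgb']; exact r.self hab.symm)
        · have hbgu : g • u ∉ r.cls a b := by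
            intro h
            have h1 := r.mem_smul_fix (inv_smul_eq_iff.2 hga'.symm) h
            rw [inv_smul_smul, inv_smul_eq_iff.2 hgb'.symm] at h1
            exact hbu h1
          have h3 : ({r.cls a b, r.cls a u, r.cls a (g • u)} : Finset (Finset Ω)) ⊆
              (Finset.univ.erase a).image (r.cls a) := by
            intro C hC
            simp only [Finset.mem_insert, Finset.mem_singleton] at hC
            rcases hC with rfl | rfl | rfl
            · exact r.mem_classes hab.symm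
            · exact r.mem_classes hu
            · exact r.mem_classes hgu
          have h4 := Finset.card_le_card h3
          rw [r.card_classes hΩ, Finset.card_eq_three.2 ⟨r.cls a b, r.cls a u, r.cls a (g • u),
            fun e => hbu (e.symm ▸ r.self hu), fun e => hbgu (e.symm ▸ r.self hgu), hne.symm,
            rfl⟩] at h4
          omega
      by_cases hfix : g • u = u
      · rw [hfix, hfix]
      obtain ⟨x, y, hxy, hcls⟩ := Finset.card_eq_two.1 (r.card hu)
      have hgg : g • g • u ∈ r.cls a u := r.moved_iff hga' hin hin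
      have hu' := r.self hu
      have hne2 : g • g • u ≠ g • u := fun e => hfix (smul_left_cancel g e)
      simp only [hcls, Finset.mem_insert, Finset.mem_singleton] at hin hgg hu'
      grind
    have h1 := orderOf_dvd_natCard (⟨g, hg⟩ : ↥(stabilizer G a ⊓ stabilizer G b))
    rw [Subgroup.orderOf_mk] at h1
    rcases (Nat.dvd_prime Nat.prime_two).1 (orderOf_dvd_of_pow_eq_one
      (show g ^ 2 = 1 by rw [sq, hsq])) with e | e
    · exact orderOf_eq_one_iff.1 e
    · rw [e] at h1; exact absurd h1 hodd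
  have hA : Nat.card (stabilizer G a) = 4 := by
    rw [card_stabilizer_two hΩ h2 hab.symm, hbot, Subgroup.card_bot, mul_one]
    norm_num
  haveI : IsPretransitive G Ω := ⟨fun x y => by
    obtain ⟨z, hz⟩ := Fintype.exists_ne_of_one_lt_card (by omega : 1 < Fintype.card Ω) x
    obtain ⟨w, hw⟩ := Fintype.exists_ne_of_one_lt_card (by omega : 1 < Fintype.card Ω) y
    obtain ⟨g, hg, -⟩ := h2 x z y w hz.symm hw.symm
    exact ⟨g, hg⟩⟩
  rw [← Subgroup.index_mul_card (stabilizer G a), MulAction.index_stabilizer_of_transitive, hA,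
    Nat.card_eq_fintype_card, hΩ]
  norm_num

theorem main (hΩ : Fintype.card Ω = p ^ 2 + 1) (h2 : TwoTrans G Ω) (a : Ω) :
    IsPreprimitive (stabilizer G a) (SubMulAction.ofStabilizer G a) ∨
      (p = 2 ∧ Nat.card G = 20) := by
  classical
  by_cases h : IsPreprimitive (stabilizer G a) (SubMulAction.ofStabilizer G a)
  · exact Or.inl h
  obtain ⟨r⟩ := exists_blocks hΩ h2 a h
  by_cases hp2 : p = 2
  · exact Or.inr ⟨hp2, card_twenty r hp2 hΩ h2⟩
  exfalso
  have hfree : ∀ a b : Ω, a ≠ b → ¬ p ∣ Nat.card ↥(stabilizer G a ⊓ stabilizer G b) :=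
    fun a b hab => not_dvd_card_two hΩ h2 r hab
  have L : ∀ c, Local r c := fun c =>
    { toReg := (exists_reg hΩ h2 hfree c).choose
      hΩ := hΩ
      hfree := fun b hb => hfree c b hb.symm }
  have hK : ∀ c u, u ≠ c → r.ker c ⊓ stabilizer G u = ⊥ :=
    fun c u hu => ker_free r hp2 hΩ h2 L hu.symm
  exact zassenhaus_false hp2 hΩ h2 (fun c d hcd => card_stabilizer_two hΩ h2 hcd.symm)
    (fun c d hcd => frobenius (L c) (hK c) hcd.symm h2 (no_central r hΩ h2 L hK hcd))

end Cfsg.Agent.Grp.SquarePlusOne
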