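import Cfsg.Agent.Lib.Grp.SquarePlusOne.Fixed
import Cfsg.Agent.Lib.Grp.SquarePlusOne.Grid

/-!
The kernel on the classes is semiregular.
-/

set_option autoImplicit false

namespace Cfsg.Agent.Grp.SquarePlusOne

open MulAction

variable {G Ω : Type*} [Group G] [Finite G] [MulAction G Ω] {p : ℕ} [DecidableEq Ω] [Fintype Ω]
  [hp : Fact p.Prime] [FaithfulSMul G Ω]

theorem ker_free (r : Blocks G Ω p) (hp2 : p ≠ 2) (hΩ : Fintype.card Ω = p ^ 2 + 1)
    (h2 : TwoTrans G Ω) (L : ∀ a, Local r a) {a b : Ω} (hab : a ≠ b) :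
    r.ker a ⊓ stabilizer G b = ⊥ := by
  classical
  by_contra hne
  have hM : ∀ c d : Ω, d ≠ c → r.ker c ⊓ stabilizer G d ≠ ⊥ := by
    intro c d hdc h
    obtain ⟨g, rfl, rfl⟩ := h2 a b c d hab hdc.symm
    obtain ⟨k, hk, hk1⟩ := (r.ker a ⊓ stabilizer G b).bot_or_exists_ne_one.resolve_left hne
    obtain ⟨hkK, hkb⟩ := Subgroup.mem_inf.1 hk
    have h1 : g * k * g⁻¹ ∈ r.ker (g • a) ⊓ stabilizer G (g • b) := by
      refine Subgroup.mem_inf.2 ⟨r.conj_mem_ker hkK, ?_⟩
      rw [mem_stabilizer_iff, mul_smul, mul_smul, inv_smul_smul, hkb]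
    rw [h, Subgroup.mem_bot, conj_eq_one_iff] at h1
    exact hk1 h1
  let scls : Ω → Ω → Finset Ω := fun c d => if d = c then ∅ else
    Finset.univ.filter fun v => v ≠ c ∧ ∀ g ∈ r.ker c, g • d = d → g • v = v
  have hmem : ∀ c d v, v ∈ scls c d ↔ d ≠ c ∧ v ≠ c ∧ ∀ g ∈ r.ker c, g • d = d → g • v = v := by
    intro c d v
    by_cases h : d = c <;> simp [scls, h]
  have heq : ∀ {c d v}, v ∈ scls c d →
      r.ker c ⊓ stabilizer G d = r.ker c ⊓ stabilizer G v := by
    intro c d v hv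
    obtain ⟨hd, hv, hf⟩ := (hmem c d v).1 hv
    refine Subgroup.eq_of_le_of_card_ge (fun g hg => Subgroup.mem_inf.2
      ⟨(Subgroup.mem_inf.1 hg).1, hf g (Subgroup.mem_inf.1 hg).1 (Subgroup.mem_inf.1 hg).2⟩) ?_
    exact (Nat.eq_of_mul_eq_mul_left hp.out.pos
      ((card_ker (L c) hv).symm.trans (card_ker (L c) hd))).le
  let s : Blocks G Ω p :=
    { cls := scls
      self := fun {c d} hd => (hmem c d d).2 ⟨hd, hd, fun g _ h => h⟩
      notMem := fun c d h => ((hmem c d c).1 h).2.1 rfl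
      diag := fun c => by simp [scls]
      eq := fun {c d v} hv => by
        obtain ⟨hd, hvc, -⟩ := (hmem c d v).1 hv
        have h := SetLike.ext_iff.1 (heq hv)
        simp only [Subgroup.mem_inf, mem_stabilizer_iff] at h
        ext w
        rw [hmem, hmem]
        exact ⟨fun hw => ⟨hd, hw.2.1, fun g hg hgd => hw.2.2 g hg ((h g).1 ⟨hg, hgd⟩).2⟩,
          fun hw => ⟨hvc, hw.2.1, fun g hg hgv => hw.2.2 g hg ((h g).2 ⟨hg, hgv⟩).2⟩⟩
      card := fun {c d} hd => by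
        rw [← r.card_classes hΩ c]
        refine Finset.card_bij (fun v _ => r.cls c v) (fun v hv => r.mem_classes ((hmem c d v).1 hv).2.1)
          ?_ ?_
        · intro v hv w hw e
          obtain ⟨-, hvc, hvf⟩ := (hmem c d v).1 hv
          obtain ⟨-, hwc, hwf⟩ := (hmem c d w).1 hw
          exact (fixed_unique (L c) hd (hM c d hd) hvc (e ▸ r.self hwc) hvf hwf).symm
        · intro C hC
          obtain ⟨u, hu, rfl⟩ := Finset.mem_image.1 hC
          obtain ⟨v, hv, hvf⟩ := exists_fixed (L c) hp2 hd (Finset.mem_erase.1 hu).1 (hM c d hd)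
          exact ⟨v, (hmem c d v).2 ⟨hd, r.ne hv, hvf⟩, r.eq hv⟩
      mem_smul := fun g {c d v} hv => by
        obtain ⟨hd, hvc, hf⟩ := (hmem c d v).1 hv
        refine (hmem _ _ _).2 ⟨fun e => hd (smul_left_cancel g e),
          fun e => hvc (smul_left_cancel g e), fun k hk hkd => ?_⟩
        have h1 := r.conj_mem_ker (g := g⁻¹) hk
        rw [inv_inv, inv_smul_smul] at h1
        have h3 := hf _ h1 (by rw [mul_smul, mul_smul, hkd, inv_smul_smul])
        rw [mul_smul, mul_smul] at h3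
        exact inv_smul_eq_iff.1 h3 }
  refine grid_false r s hΩ h2 (fun c d v hv hv' => ?_) (fun c d v hd hv => ?_) hab
  · obtain ⟨hd, -, hf⟩ := (hmem c d v).1 hv'
    exact fixed_unique (L c) hd (hM c d hd) hd hv (fun g _ h => h) hf
  · exact ⟨fun h => (hmem c d v).2 ⟨hd, hv, h⟩, fun h => ((hmem c d v).1 h).2.2⟩

end Cfsg.Agent.Grp.SquarePlusOne
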