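import Cfsg.Agent.Lib.Grp.SquarePlusOne.Config

/-!
Sylow subgroups of point stabilisers for a block configuration.
-/

set_option autoImplicit false

namespace Cfsg.Agent.Grp.SquarePlusOne

open MulAction

variable {G Ω : Type*} [Group G] [Finite G] [MulAction G Ω] {p : ℕ} [DecidableEq Ω] [Fintype Ω]
  [hp : Fact p.Prime]

theorem card_stabilizer_two (hΩ : Fintype.card Ω = p ^ 2 + 1) (h2 : TwoTrans G Ω) {a b : Ω}
    (hba : b ≠ a) :
    Nat.card (stabilizer G a) = p ^ 2 * Nat.card ↥(stabilizer G a ⊓ stabilizer G b) := by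
  classical
  haveI := Fintype.ofFinite G
  have h := MulAction.card_orbit_mul_card_stabilizer_eq_card_group (stabilizer G a) b
  have horb : orbit (stabilizer G a) b = {u | u ≠ a} := by
    ext u
    constructor
    · rintro ⟨g, rfl⟩ (e : (g : G) • b = a)
      exact hba (smul_left_cancel (g : G) (e.trans g.2.symm))
    · intro (hu : u ≠ a)
      obtain ⟨g, hga, hgb⟩ := h2 a b a u hba.symm (Ne.symm hu)
      exact ⟨⟨g, hga⟩, hgb⟩
  have hst : stabilizer (stabilizer G a) b =
      (stabilizer G a ⊓ stabilizer G b).subgroupOf (stabilizer G a) := by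
    ext g
    simp [Subgroup.mem_subgroupOf, mem_stabilizer_iff, Subgroup.smul_def]
  rw [← Nat.card_eq_fintype_card, ← Nat.card_eq_fintype_card, ← Nat.card_eq_fintype_card, hst,
    Nat.card_congr (Subgroup.subgroupOfEquivOfLe (inf_le_left :
      stabilizer G a ⊓ stabilizer G b ≤ stabilizer G a)).toEquiv, horb] at h
  have hc : Nat.card ↥{u : Ω | u ≠ a} = p ^ 2 := by
    rw [Nat.card_eq_fintype_card]
    simp [Finset.filter_ne', Fintype.card_subtype, hΩ]
  rw [← h, hc]

/-- A `p`-subgroup of a point stabiliser whose two-point stabiliser is as small as possible is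
transitive on the other points. -/
theorem exists_mover (hΩ : Fintype.card Ω = p ^ 2 + 1) {a b : Ω} (hba : b ≠ a) {P : Subgroup G}
    (hP : P ≤ stabilizer G a)
    (hcard : Nat.card P = p ^ 2 * Nat.card ↥(P ⊓ stabilizer G b)) {v : Ω} (hv : v ≠ a) :
    ∃ y ∈ P, y • b = v := by
  classical
  haveI := Fintype.ofFinite G
  have h := MulAction.card_orbit_mul_card_stabilizer_eq_card_group P b
  have hst : stabilizer P b = (P ⊓ stabilizer G b).subgroupOf P := by
    ext g
    simp [Subgroup.mem_subgroupOf, mem_stabilizer_iff, Subgroup.smul_def]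
  rw [← Nat.card_eq_fintype_card, ← Nat.card_eq_fintype_card, ← Nat.card_eq_fintype_card, hst,
    Nat.card_congr (Subgroup.subgroupOfEquivOfLe (inf_le_left :
      P ⊓ stabilizer G b ≤ P)).toEquiv, hcard] at h
  have hc := Nat.eq_of_mul_eq_mul_right Nat.card_pos h
  have hsub : orbit P b ⊆ {u | u ≠ a} := by
    rintro u ⟨g, rfl⟩ (e : (g : G) • b = a)
    exact hba (smul_left_cancel (g : G) (e.trans (hP g.2).symm))
  have heq : orbit P b = {u | u ≠ a} := by
    refine Set.eq_of_subset_of_ncard_le hsub ?_ (Set.toFinite _)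
    rw [← Nat.card_coe_set_eq, ← Nat.card_coe_set_eq, hc, Nat.card_eq_fintype_card]
    simp [Finset.filter_ne', Fintype.card_subtype, hΩ]
  have : v ∈ orbit P b := by rw [heq]; exact hv
  obtain ⟨g, hg⟩ := this
  exact ⟨g, g.2, hg⟩

variable [FaithfulSMul G Ω] (r : Blocks G Ω p)

/-- The fixed points of a nontrivial two-point stabiliser in a transitive `p`-group. -/
theorem fixed_eq (hΩ : Fintype.card Ω = p ^ 2 + 1) {a b : Ω} (hba : b ≠ a) {P : Subgroup G}
    (hP : P ≤ stabilizer G a) (hpP : IsPGroup p P)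
    (hcard : Nat.card P = p ^ 2 * Nat.card ↥(P ⊓ stabilizer G b))
    (hne : P ⊓ stabilizer G b ≠ ⊥) (v : Ω) :
    (∀ q ∈ P ⊓ stabilizer G b, q • v = v) ↔ v = a ∨ v ∈ r.cls a b := by
  classical
  haveI := Fintype.ofFinite G
  have hmove := fun v hv => exists_mover hΩ hba hP hcard (v := v) hv
  have hfixa : ∀ y : P, (y : G) • a = a := fun y => hP y.2
  have hself := r.self hba
  let PB : Subgroup P :=
    { carrier := {y | (y : G) • b ∈ r.cls a b}
      one_mem' := by simpa using hself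
      mul_mem' := by
        intro y z (hy : (y : G) • b ∈ r.cls a b) (hz : (z : G) • b ∈ r.cls a b)
        show ((y * z : P) : G) • b ∈ r.cls a b
        rw [Subgroup.coe_mul, mul_smul]
        exact r.moved_iff (hfixa y) hz hy
      inv_mem' := by
        intro y (hy : (y : G) • b ∈ r.cls a b)
        show ((y⁻¹ : P) : G) • b ∈ r.cls a b
        have := r.mem_smul_fix (hfixa y⁻¹) (r.symm hy)
        rw [Subgroup.coe_inv, inv_smul_smul] at this
        simpa using this }
  let Qs : Subgroup P := (P ⊓ stabilizer G b).subgroupOf P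
  have hQs : ∀ y : P, y ∈ Qs ↔ (y : G) • b = b := fun y => by
    simp [Qs, Subgroup.mem_subgroupOf, mem_stabilizer_iff]
  have hQcard : Nat.card Qs = Nat.card ↥(P ⊓ stabilizer G b) :=
    Nat.card_congr (Subgroup.subgroupOfEquivOfLe inf_le_left).toEquiv
  have hQle : Qs ≤ PB := fun y hy => by
    show (y : G) • b ∈ r.cls a b
    rw [(hQs y).1 hy]; exact hself
  have hPBcard : Nat.card PB = p * Nat.card Qs := by
    have h := MulAction.card_orbit_mul_card_stabilizer_eq_card_group PB b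
    have hst : stabilizer PB b = Qs.subgroupOf PB := by
      ext y
      simp [Subgroup.mem_subgroupOf, mem_stabilizer_iff, Subgroup.smul_def, hQs]
    have horb : orbit PB b = (r.cls a b : Set Ω) := by
      ext u
      constructor
      · rintro ⟨y, rfl⟩; exact y.2
      · intro hu
        obtain ⟨y, hy, rfl⟩ := hmove u (r.ne hu)
        exact ⟨⟨⟨y, hy⟩, hu⟩, rfl⟩
    rw [← Nat.card_eq_fintype_card, ← Nat.card_eq_fintype_card, ← Nat.card_eq_fintype_card, hst,
      Nat.card_congr (Subgroup.subgroupOfEquivOfLe hQle).toEquiv, horb, Nat.card_coe_set_eq,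
      Set.ncard_coe_finset, r.card hba] at h
    exact h.symm
  have hindex : PB.index = p := by
    have h := Subgroup.index_mul_card PB
    rw [hPBcard, hcard, ← hQcard, sq, mul_assoc] at h
    exact Nat.eq_of_mul_eq_mul_right (Nat.mul_pos hp.out.pos Nat.card_pos) h
  obtain ⟨k, hk⟩ := IsPGroup.iff_card.1 hpP
  have hk0 : k ≠ 0 := by
    intro e
    rw [e, pow_zero] at hk
    have h1 : 1 < p ^ 2 * Nat.card ↥(P ⊓ stabilizer G b) :=
      lt_of_lt_of_le (Nat.one_lt_pow two_ne_zero hp.out.one_lt) (Nat.le_mul_of_pos_right _ Nat.card_pos)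
    omega
  have hmin : (Nat.card P).minFac = p := by rw [hk, Nat.pow_minFac hk0, hp.out.minFac_eq]
  haveI hPBn : PB.Normal := Subgroup.normal_of_index_eq_minFac_card (hindex.trans hmin.symm)
  have hQidx : (Qs.subgroupOf PB).index = (Nat.card PB).minFac := by
    have h := Subgroup.index_mul_card (Qs.subgroupOf PB)
    rw [Nat.card_congr (Subgroup.subgroupOfEquivOfLe hQle).toEquiv, hPBcard] at h
    rw [Nat.eq_of_mul_eq_mul_right Nat.card_pos h]
    obtain ⟨l, hl⟩ := IsPGroup.iff_card.1 (hpP.to_subgroup PB)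
    have hl0 : l ≠ 0 := by
      intro e
      rw [e, pow_zero, hPBcard] at hl
      have := hp.out.one_lt
      have := Nat.le_mul_of_pos_right p (Nat.card_pos (α := Qs))
      omega
    rw [hl, Nat.pow_minFac hl0, hp.out.minFac_eq]
  haveI hQn : (Qs.subgroupOf PB).Normal := Subgroup.normal_of_index_eq_minFac_card hQidx
  have hconj : ∀ y ∈ PB, ∀ q ∈ Qs, y * q * y⁻¹ ∈ Qs := fun y hy q hq => by
    simpa [Subgroup.mem_subgroupOf] using hQn.conj_mem ⟨q, hQle hq⟩ hq ⟨y, hy⟩
  constructor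
  · intro h
    by_cases hva : v = a
    · exact Or.inl hva
    refine Or.inr (by_contra fun hv => ?_)
    obtain ⟨y, hy, rfl⟩ := hmove v hva
    let y' : P := ⟨y, hy⟩
    have hyN : y'⁻¹ ∈ Subgroup.normalizer (Qs : Set P) := by
      rw [Subgroup.mem_normalizer_iff]
      have hfwd : ∀ q ∈ Qs, y'⁻¹ * q * y'⁻¹⁻¹ ∈ Qs := fun q hq => by
        rw [hQs, inv_inv, Subgroup.coe_mul, Subgroup.coe_mul, mul_smul, mul_smul, Subgroup.coe_inv,
          h q (Subgroup.mem_subgroupOf.1 hq), inv_smul_smul]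
      intro q
      refine ⟨hfwd q, fun hq => ?_⟩
      let f : Qs → Qs := fun q => ⟨y'⁻¹ * q * y'⁻¹⁻¹, hfwd q q.2⟩
      have hf : Function.Injective f := fun q₁ q₂ e =>
        Subtype.ext (mul_left_cancel (mul_right_cancel (congrArg Subtype.val e)))
      obtain ⟨q', hq'⟩ := Finite.surjective_of_injective hf ⟨_, hq⟩
      have : (q' : P) = q := mul_left_cancel (mul_right_cancel (congrArg Subtype.val hq'))
      exact this ▸ q'.2
    have hyN' : y' ∈ Subgroup.normalizer (Qs : Set P) := by simpa using inv_mem hyN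
    have hPBN : PB ≤ Subgroup.normalizer (Qs : Set P) := fun z hz => by
      rw [Subgroup.mem_normalizer_iff]
      refine fun q => ⟨hconj z hz q, fun hq => ?_⟩
      simpa [mul_assoc] using hconj z⁻¹ (inv_mem hz) _ hq
    have htop : Subgroup.normalizer (Qs : Set P) = ⊤ := by
      rw [← Subgroup.index_eq_one]
      rcases (Nat.dvd_prime hp.out).1 (hindex ▸ Subgroup.index_dvd_of_le hPBN) with e | e
      · exact e
      · exfalso
        have heq : PB = Subgroup.normalizer (Qs : Set P) := by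
          refine Subgroup.eq_of_le_of_card_ge hPBN ?_
          have h1 := Subgroup.index_mul_card (Subgroup.normalizer (Qs : Set P))
          have h2 := Subgroup.index_mul_card PB
          rw [e] at h1; rw [hindex] at h2
          exact (Nat.eq_of_mul_eq_mul_left hp.out.pos (h1.trans h2.symm)).le
        exact hv (heq ▸ hyN' : y' ∈ PB)
    refine hne ((Subgroup.eq_bot_iff_forall _).2 fun q hq => ?_)
    refine eq_of_smul_eq_smul (α := Ω) fun u => ?_
    rw [one_smul]
    by_cases hua : u = a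
    · rw [hua]; exact hP (Subgroup.mem_inf.1 hq).1
    obtain ⟨z, hz, rfl⟩ := hmove u hua
    have hzN : (⟨z, hz⟩ : P)⁻¹ ∈ Subgroup.normalizer (Qs : Set P) := htop ▸ Subgroup.mem_top _
    have hq' : (⟨q, (Subgroup.mem_inf.1 hq).1⟩ : P) ∈ Qs := Subgroup.mem_subgroupOf.2 hq
    have h3 := (hQs _).1 ((Subgroup.mem_normalizer_iff.1 hzN _).1 hq')
    simp only [inv_inv, Subgroup.coe_mul, Subgroup.coe_inv, mul_smul] at h3
    exact inv_smul_eq_iff.1 h3
  · rintro (rfl | hv) q hq
    · exact hP (Subgroup.mem_inf.1 hq).1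
    obtain ⟨y, hy, rfl⟩ := hmove v (r.ne hv)
    have hq' : (⟨q, (Subgroup.mem_inf.1 hq).1⟩ : P) ∈ Qs := Subgroup.mem_subgroupOf.2 hq
    have hy' : (⟨y, hy⟩ : P)⁻¹ ∈ PB := inv_mem (show (⟨y, hy⟩ : P) ∈ PB from hv)
    have h3 := (hQs _).1 (hconj _ hy' _ hq')
    simp only [inv_inv, Subgroup.coe_mul, Subgroup.coe_inv, mul_smul] at h3
    exact inv_smul_eq_iff.1 h3

omit [FaithfulSMul G Ω] in
/-- A transitive `p`-subgroup of `stabilizer a` over a Sylow subgroup of a two-point stabiliser. -/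
theorem exists_transitive_pgroup (hΩ : Fintype.card Ω = p ^ 2 + 1) (h2 : TwoTrans G Ω) {a b : Ω}
    (hba : b ≠ a) {Q : Subgroup G} (hQ : Q ≤ stabilizer G a ⊓ stabilizer G b)
    (hQcard : Nat.card Q = p ^ (Nat.card ↥(stabilizer G a ⊓ stabilizer G b)).factorization p) :
    ∃ P : Subgroup G, P ≤ stabilizer G a ∧ IsPGroup p P ∧ P ⊓ stabilizer G b = Q ∧
      Nat.card P = p ^ 2 * Nat.card ↥(P ⊓ stabilizer G b) := by
  classical
  haveI := Fintype.ofFinite G
  set A := stabilizer G a with hA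
  set H := stabilizer G a ⊓ stabilizer G b with hH
  have hQA : Q ≤ A := hQ.trans inf_le_left
  obtain ⟨P0, hP0⟩ := (IsPGroup.iff_card.2 ⟨_, (Nat.card_congr
    (Subgroup.subgroupOfEquivOfLe hQA).toEquiv).trans hQcard⟩ :
      IsPGroup p (Q.subgroupOf A)).exists_le_sylow
  refine ⟨(P0 : Subgroup A).map A.subtype, Subgroup.map_subtype_le _, P0.2.map _, ?_, ?_⟩
  all_goals
    have hQP : Q ≤ (P0 : Subgroup A).map A.subtype ⊓ stabilizer G b := by
      refine le_inf (fun q hq => ?_) (hQ.trans inf_le_right)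
      exact ⟨⟨q, hQA hq⟩, hP0 (Subgroup.mem_subgroupOf.2 hq), rfl⟩
    have hPH : (P0 : Subgroup A).map A.subtype ⊓ stabilizer G b ≤ H :=
      le_inf (inf_le_left.trans (Subgroup.map_subtype_le _)) inf_le_right
    have hPQ : (P0 : Subgroup A).map A.subtype ⊓ stabilizer G b = Q := by
      symm
      refine Subgroup.eq_of_le_of_card_ge hQP ?_
      obtain ⟨k, hk⟩ := IsPGroup.iff_card.1 ((P0.2.map A.subtype).to_le
        (inf_le_left : (P0 : Subgroup A).map A.subtype ⊓ stabilizer G b ≤ _))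
      rw [hk, hQcard]
      refine Nat.pow_le_pow_right hp.out.pos ?_
      have := Subgroup.card_dvd_of_le hPH
      rw [hk] at this
      exact (hp.out.pow_dvd_iff_le_factorization Nat.card_pos.ne').1 this
  · exact hPQ
  · rw [hPQ, hQcard, Subgroup.card_map_of_injective A.subtype_injective, P0.card_eq_multiplicity,
      card_stabilizer_two hΩ h2 hba, Nat.factorization_mul (pow_ne_zero _ hp.out.ne_zero)
        Nat.card_pos.ne', Finsupp.add_apply, hp.out.factorization_pow, Finsupp.single_eq_same, pow_add]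

/-- Two-point stabilisers have order prime to `p`. -/
theorem not_dvd_card_two (hΩ : Fintype.card Ω = p ^ 2 + 1) (h2 : TwoTrans G Ω)
    (r : Blocks G Ω p) {a b : Ω} (hab : a ≠ b) :
    ¬ p ∣ Nat.card ↥(stabilizer G a ⊓ stabilizer G b) := by
  classical
  intro hdvd
  set H := stabilizer G a ⊓ stabilizer G b with hH
  obtain ⟨Q0⟩ : Nonempty (Sylow p H) := inferInstance
  set Q := (Q0 : Subgroup H).map H.subtype with hQ
  have hQcard : Nat.card Q = p ^ (Nat.card H).factorization p := by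
    rw [hQ, Subgroup.card_map_of_injective H.subtype_injective, Q0.card_eq_multiplicity]
  have hQle : Q ≤ H := Subgroup.map_subtype_le _
  have hne : Q ≠ ⊥ := by
    intro e
    rw [e, Subgroup.card_bot] at hQcard
    have h1 := (Nat.pow_eq_one.1 hQcard.symm).resolve_left hp.out.ne_one
    have := hp.out.factorization_pos_of_dvd Nat.card_pos.ne' hdvd
    omega
  obtain ⟨P, hPa, hpP, hPQ, hPc⟩ := exists_transitive_pgroup hΩ h2 hab.symm hQle hQcard
  have hQle' : Q ≤ stabilizer G b ⊓ stabilizer G a := hQle.trans (le_of_eq (inf_comm _ _))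
  obtain ⟨P', hP'b, hpP', hP'Q, hP'c⟩ := exists_transitive_pgroup hΩ h2 hab hQle'
    (by rw [hQcard, hH, inf_comm])
  refine steiner_false_of_pair r hΩ h2 hab ?_
  ext v
  rw [Finset.mem_insert, Finset.mem_insert,
    ← fixed_eq r hΩ hab.symm hPa hpP hPc (hPQ ▸ hne), hPQ,
    ← fixed_eq r hΩ hab hP'b hpP' hP'c (hP'Q ▸ hne), hP'Q]

/-- A regular abelian subgroup of a point stabiliser. -/
structure Reg (a : Ω) where
  P : Subgroup G
  le : P ≤ stabilizer G a
  card_eq : Nat.card P = p ^ 2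
  comm : ∀ x ∈ P, ∀ y ∈ P, x * y = y * x
  free : ∀ y ∈ P, ∀ u, u ≠ a → y • u = u → y = 1
  trans : ∀ u v, u ≠ a → v ≠ a → ∃ y ∈ P, y • u = v

omit [FaithfulSMul G Ω] in
theorem exists_reg (hΩ : Fintype.card Ω = p ^ 2 + 1) (h2 : TwoTrans G Ω)
    (hfree : ∀ a b : Ω, a ≠ b → ¬ p ∣ Nat.card ↥(stabilizer G a ⊓ stabilizer G b)) (a : Ω) :
    ∃ R : Reg (G := G) (Ω := Ω) (p := p) a, ∀ H : Subgroup G, H ≤ stabilizer G a → IsPGroup p H →
      Nat.card H ≤ Nat.card R.P := by
  classical
  obtain ⟨b, hba⟩ : ∃ b, b ≠ a := Fintype.exists_ne_of_one_lt_card (by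
    rw [hΩ]; have := Nat.one_lt_pow two_ne_zero hp.out.one_lt; omega) a
  have hA : Nat.card (stabilizer G a) = p ^ 2 * Nat.card ↥(stabilizer G a ⊓ stabilizer G b) :=
    card_stabilizer_two hΩ h2 hba
  have hz : (Nat.card ↥(stabilizer G a ⊓ stabilizer G b)).factorization p = 0 :=
    Nat.factorization_eq_zero_of_not_dvd (hfree a b hba.symm)
  obtain ⟨P, hPa, hpP, hPQ, hPc⟩ := exists_transitive_pgroup hΩ h2 hba (Q := ⊥) bot_le
    (by rw [hz, Subgroup.card_bot, pow_zero])
  rw [hPQ, Subgroup.card_bot, mul_one] at hPc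
  have hfree' : ∀ u, u ≠ a → P ⊓ stabilizer G u = ⊥ := by
    intro u hu
    obtain ⟨k, hk⟩ := IsPGroup.iff_card.1 (hpP.to_le (inf_le_left : P ⊓ stabilizer G u ≤ P))
    rcases Nat.eq_zero_or_pos k with rfl | hk0
    · exact Subgroup.card_eq_one.1 (by rw [hk, pow_zero])
    · exfalso
      refine hfree a u hu.symm ((dvd_pow_self p hk0.ne').trans (hk ▸ Subgroup.card_dvd_of_le ?_))
      exact le_inf (inf_le_left.trans hPa) inf_le_right
  refine ⟨⟨P, hPa, hPc, ?_, ?_, ?_⟩, ?_⟩
  · intro x hx y hy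
    have := IsPGroup.commutative_of_card_eq_prime_sq hPc
    exact congrArg Subtype.val (this ⟨x, hx⟩ ⟨y, hy⟩)
  · intro y hy u hu hyu
    exact Subgroup.mem_bot.1 (hfree' u hu ▸ Subgroup.mem_inf.2 ⟨hy, hyu⟩)
  · intro u v hu hv
    exact exists_mover hΩ hu hPa (by rw [hfree' u hu, Subgroup.card_bot, mul_one, hPc]) hv
  · intro H hH hpH
    obtain ⟨k, hk⟩ := IsPGroup.iff_card.1 hpH
    show Nat.card H ≤ Nat.card P
    rw [hPc, hk]
    refine Nat.pow_le_pow_right hp.out.pos ?_
    have := Subgroup.card_dvd_of_le hH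
    rw [hk, hp.out.pow_dvd_iff_le_factorization Nat.card_pos.ne', hA, Nat.factorization_mul
      (pow_ne_zero _ hp.out.ne_zero) Nat.card_pos.ne', Finsupp.add_apply, hz,
      hp.out.factorization_pow, Finsupp.single_eq_same] at this
    simpa using this

omit [Finite G] [FaithfulSMul G Ω] [Fintype Ω] in
/-- In a regular abelian group an element fixing one class fixes all of them. -/
theorem Reg.mem_ker {a : Ω} (R : Reg (G := G) (Ω := Ω) (p := p) a) (r : Blocks G Ω p) {b : Ω}
    (hba : b ≠ a) {y : G} (hy : y ∈ R.P) (h : y • b ∈ r.cls a b) : y ∈ r.ker a := by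
  refine ⟨R.le hy, fun u hu => ?_⟩
  obtain ⟨z, hz, rfl⟩ := R.trans b u hba hu
  rw [← mul_smul, R.comm y hy z hz, mul_smul]
  exact r.mem_smul_fix (R.le hz) h

end Cfsg.Agent.Grp.SquarePlusOne
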